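import Cfsg.Agent.CpAutTh.ThreeE
import Cfsg.Agent.LThree.Red2
import Cfsg.Agent.CpAut.RankOne
import Cfsg.Agent.CpAut.Alt
import Cfsg.Agent.LThree.Red
import Cfsg.Agent.CpAut.Base
import Cfsg.Agent.ClassicalGeometry.AutPSL.Main
import Cfsg.Agent.S0243
import Cfsg.Agent.S0144
import Cfsg.Agent.SmallSimple.PSLTwoPart
import Cfsg.Agent.SmallSimple.S1000.PSLFacts
import Cfsg.Agent.CpQuot.Congr
import Cfsg.Agent.FastGrp
import Cfsg.Agent.Prune
set_option linter.all false
prune_inst 0x7fbcbcfbeff8bfffffff7e7faedcdffdf9bcffffffdff9cbffec69efafdf6b0ecde5fb8d8feb58ff1ee3629610f87bd3fbfffeffeb6ffc7ffffdfff45ffbff9fedffbd0851f688340ffc6fff9bf0778e7f3fffffffffffffffffffffffffffbeffffffffffff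
open scoped Cfsg.Agent.FastGrp

-- merged: Cfsg.Agent.CpAutTh.Mid
section

/-!
# The Thompson group: the centralizers of the elements of order 3, 5, 7 (helper96)

* `hall` : `Comps p C_{C(s)}(x)` for commuting `s` (order 2), `x` (order `p = 3, 5, 7`);
* `exists_pair_*` : the pairs `(x, s)` up to conjugacy;
* `comps_five` : `Comps 5 C(x)`, `x` of order 5.
-/

set_option autoImplicit false
set_option maxRecDepth 100000

namespace Cfsg.Agent.CpAutTh.Mid

open Subgroup Cfsg
open Cfsg.Agent.Th.Base Cfsg.Agent.Th.Word Cfsg.Agent.Th.RelWords Cfsg.Agent.Th.PermTab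
  Cfsg.Agent.Th.KOracle Cfsg.Agent.Th.KPerm Cfsg.Agent.Th.NineAct Cfsg.Agent.Th.CStruct
open Cfsg.Agent.KFacts.Th.Mask Cfsg.Agent.KFacts.Th.Struct
open Cfsg.Agent.CpAutTh.Data Cfsg.Agent.CpAutTh.Alt Cfsg.Agent.CpAutTh.RankOne Cfsg.Agent.CpAutTh.Local
open Cfsg.Agent.LThree (Comps)

universe u v

/-! ### Generalities -/

/-- conjugation of centralizers -/
def centConj {G : Type u} [Group G] (g : G) {s t : G} (h : g * s * g⁻¹ = t) :
    ↥(centralizer ({s} : Set G)) ≃* ↥(centralizer ({t} : Set G)) where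
  toFun y := ⟨g * y * g⁻¹, by
    rw [mem_centralizer_singleton_iff, ← h]
    have := mem_centralizer_singleton_iff.1 y.2
    calc g * (y : G) * g⁻¹ * (g * s * g⁻¹) = g * (y * s) * g⁻¹ := by group
      _ = g * s * g⁻¹ * (g * y * g⁻¹) := by rw [this]; group⟩
  invFun y := ⟨g⁻¹ * y * g, by
    rw [mem_centralizer_singleton_iff]
    have h2 := mem_centralizer_singleton_iff.1 y.2
    have : (y : G) * (g * s * g⁻¹) = g * s * g⁻¹ * y := by
      generalize (y : G) = z at h2 ⊢
      rw [h]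
      exact h2
    calc g⁻¹ * (y : G) * g * s = g⁻¹ * (y * (g * s * g⁻¹)) * g := by group
      _ = s * (g⁻¹ * y * g) := by rw [this]; group⟩
  left_inv y := by
    apply Subtype.ext
    change g⁻¹ * (g * (y : G) * g⁻¹) * g = y
    group
  right_inv y := by
    apply Subtype.ext
    change g * (g⁻¹ * (y : G) * g) * g⁻¹ = y
    group
  map_mul' a b := by
    apply Subtype.ext
    change g * ((a : G) * b) * g⁻¹ = g * a * g⁻¹ * (g * b * g⁻¹)
    group

/-- `p² ∤ |X|` gives `m_p(X) ≤ 1` -/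
theorem prankLE_one {X : Type u} [Group X] [Finite X] {p : ℕ} (hp : p.Prime) (h : ¬ p ^ 2 ∣ Nat.card X) :
    PRankLE p 1 X := by
  intro A _ hA
  have : Fact p.Prime := ⟨hp⟩
  have h1 : IsPGroup p ↥A := fun a => ⟨1, by rw [pow_one]; exact Subtype.ext (hA a a.2)⟩
  obtain ⟨n, hn⟩ := IsPGroup.iff_card.1 h1
  rw [hn]
  apply Nat.pow_le_pow_right hp.pos
  by_contra hlt
  apply h
  refine dvd_trans (pow_dvd_pow p (by omega : 2 ≤ n)) ?_
  rw [← hn]
  exact card_subgroup_dvd_card A

/-- `C ↠ A` with kernel an `r`-group -/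
theorem comps_cent_of_epi {C : Type u} {A : Type v} [Group C] [Finite C] [Group A] {r p : ℕ} (hr : r.Prime)
    (hp : p.Prime) (hrp : r ≠ p) (f : C →* A) (hf : Function.Surjective f) (hk : IsPGroup r ↥f.ker)
    (hA : ∀ y : A, orderOf y = p → Comps p ↥(centralizer ({y} : Set A))) {x : C} (hx : orderOf x = p) :
    Comps p ↥(centralizer ({x} : Set C)) := by
  have : Fact r.Prime := ⟨hr⟩
  have : Fact p.Prime := ⟨hp⟩
  have hcop : ∀ K : Subgroup C, K ≤ f.ker → (Nat.card ↥K).Coprime p := by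
    intro K hK
    obtain ⟨n, hn⟩ := IsPGroup.iff_card.1 (hk.to_le hK)
    rw [hn]
    exact Nat.Coprime.pow_left n ((Nat.coprime_primes hr hp).2 hrp)
  have hfx : orderOf (f x) = p := by
    have h1 : orderOf (f x) ∣ p := hx ▸ orderOf_map_dvd f x
    rcases (Nat.dvd_prime hp).1 h1 with h2 | h2
    · exfalso
      have h3 : x ∈ f.ker := MonoidHom.mem_ker.2 (orderOf_eq_one_iff.1 h2)
      have h4 : p ∣ Nat.card ↥f.ker := by
        rw [← hx, ← Subgroup.orderOf_mk x h3]
        exact _root_.orderOf_dvd_natCard _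
      have h5 := (hcop f.ker le_rfl)
      exact hp.one_lt.ne' (Nat.eq_one_of_dvd_coprimes h5 h4 dvd_rfl)
    · exact h2
  let φ : ↥(centralizer ({x} : Set C)) →* ↥(centralizer ({f x} : Set A)) :=
    { toFun := fun y => ⟨f (y : C), by
        rw [mem_centralizer_singleton_iff, ← map_mul, ← map_mul, mem_centralizer_singleton_iff.1 y.2]⟩
      map_one' := Subtype.ext (map_one f)
      map_mul' := fun a b => Subtype.ext (map_mul f (a : C) (b : C)) }
  have hφ : Function.Surjective φ := by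
    rintro ⟨a, ha⟩
    obtain ⟨g, rfl⟩ := hf a
    obtain ⟨q, hq, hqg⟩ := exists_comm hr hp hrp f hk hx (mem_centralizer_singleton_iff.1 ha)
    refine ⟨⟨q * g, mem_centralizer_singleton_iff.2 hqg⟩, Subtype.ext ?_⟩
    change f (q * g) = f g
    rw [map_mul, MonoidHom.mem_ker.1 hq, one_mul]
  refine (LThree.Red.comps_iff_of_surj φ hφ ?_).1 (hA _ hfx)
  have h1 : φ.ker.map (centralizer ({x} : Set C)).subtype ≤ f.ker := by
    rintro _ ⟨y, hy, rfl⟩
    exact congrArg Subtype.val (MonoidHom.mem_ker.1 hy)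
  have h2 := hcop _ h1
  rwa [card_map_of_injective (subtype_injective _)] at h2

/-- centralizers of the elements of order 3 of a group with one class of involutions and an epimorphism `C(a) ↠ A9` -/
theorem comps_nine (y : alternatingGroup (Fin 9)) (hy : orderOf y = 3) :
    Comps 3 ↥(centralizer ({y} : Set (alternatingGroup (Fin 9)))) :=
  CpAut.comps_alt Nat.prime_three (by norm_num) (Or.inr (Or.inr (Or.inl rfl))) y hy

section

variable {G : Type u} [Group G] {γ : ℕ → G} (h : Ctx γ)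
  (hone : ∀ u : G, orderOf u = 2 → ∃ g : G, g * u * g⁻¹ = γ 1)
include h hone

/-- the isomorphism `C(s) ≃ C` -/
theorem exists_equiv {s : G} (hs : orderOf s = 2) : Nonempty (↥(centralizer ({s} : Set G)) ≃* ↥(sub γ isC)) := by
  obtain ⟨g, hg⟩ := hone s hs
  exact ⟨(centConj g hg).trans (MulEquiv.subgroupCongr h.cent)⟩

theorem card_cent {s : G} (hs : orderOf s = 2) : Nat.card ↥(centralizer ({s} : Set G)) = 92897280 := by
  obtain ⟨e⟩ := exists_equiv h hone hs
  rw [Nat.card_congr e.toEquiv, h.cardC]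

theorem exists_epi_cent {s : G} (hs : orderOf s = 2) : ∃ f : ↥(centralizer ({s} : Set G)) →* alternatingGroup (Fin 9),
    Function.Surjective f ∧ IsPGroup 2 ↥f.ker := by
  obtain ⟨e⟩ := exists_equiv h hone hs
  obtain ⟨f, F⟩ := Local.exists_epi h
  refine ⟨f.comp e.toMonoidHom, F.surj.comp e.surjective, ?_⟩
  have h1 : (f.comp e.toMonoidHom).ker = f.ker.comap e.toMonoidHom := by
    rw [MonoidHom.comap_ker]
  rw [h1]
  exact (ker_two h F).comap_of_injective e.toMonoidHom e.injective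

/-- `Comps p C_{C(s)}(x)` -/
theorem hall {p : ℕ} (h357 : p = 3 ∨ p = 5 ∨ p = 7) (s x : G) (hs : orderOf s = 2) (hx : orderOf x = p)
    (hc : s * x = x * s) :
    Comps p ↥(centralizer ({(⟨x, mem_centralizer_singleton_iff.2 hc.symm⟩ : ↥(centralizer ({s} : Set G)))} :
      Set ↥(centralizer ({s} : Set G)))) := by
  have := h.fin
  have hox : orderOf (⟨x, mem_centralizer_singleton_iff.2 hc.symm⟩ : ↥(centralizer ({s} : Set G))) = p := by
    rw [Subgroup.orderOf_mk, hx]
  rcases h357 with rfl | rfl | rfl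
  · obtain ⟨f, hf, hk⟩ := exists_epi_cent h hone hs
    exact comps_cent_of_epi Nat.prime_two Nat.prime_three (by norm_num) f hf hk comps_nine hox
  · refine CpAut.comps_cent_of_rank_one Nat.prime_five (by norm_num) hox ?_
    apply prankLE_one Nat.prime_five
    intro h1
    have h2 := h1.trans (card_subgroup_dvd_card _)
    rw [card_cent h hone hs] at h2
    revert h2
    norm_num
  · have hp : Nat.Prime 7 := by norm_num
    refine CpAut.comps_cent_of_rank_one hp (by norm_num) hox ?_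
    apply prankLE_one hp
    intro h1
    have h2 := h1.trans (card_subgroup_dvd_card _)
    rw [card_cent h hone hs] at h2
    revert h2
    norm_num

/-- `Comps p C_{C(x)}(s)` -/
theorem hall' {p : ℕ} (h357 : p = 3 ∨ p = 5 ∨ p = 7) (x : G) (hx : orderOf x = p)
    (s : ↥(centralizer ({x} : Set G))) (hs : orderOf s = 2) :
    Comps p ↥(centralizer ({s} : Set ↥(centralizer ({x} : Set G)))) := by
  have hs' : orderOf (s : G) = 2 := by rw [Subgroup.orderOf_coe, hs]
  have hc : (s : G) * x = x * s := mem_centralizer_singleton_iff.1 s.2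
  exact (hall h hone h357 (s : G) x hs' hx hc).congr (LThree.Red.centCent hc).symm

/-- pairs `(x, s)` up to conjugacy -/
theorem exists_pair {p : ℕ} {x s : G} (hx : orderOf x = p) (hs : orderOf s = 2) (hc : s * x = x * s) {P : G → Prop}
    (hrep : ∀ y : sub γ isC, orderOf y = p → ∃ g : sub γ isC, P ((g * y * g⁻¹ : sub γ isC) : G)) :
    ∃ g : G, g * s * g⁻¹ = γ 1 ∧ P (g * x * g⁻¹) := by
  obtain ⟨g, hg⟩ := hone s hs
  have h1 : g * x * g⁻¹ ∈ sub γ isC := by
    rw [h.mem_C, ← hg]
    calc g * x * g⁻¹ * (g * s * g⁻¹) = g * (x * s) * g⁻¹ := by group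
      _ = g * s * g⁻¹ * (g * x * g⁻¹) := by rw [← hc]; group
  have h2 : orderOf (⟨g * x * g⁻¹, h1⟩ : sub γ isC) = p := by
    rw [Subgroup.orderOf_mk, ← hx]
    exact MulEquiv.orderOf_eq (MulAut.conj g) x
  obtain ⟨c, hcP⟩ := hrep _ h2
  refine ⟨c * g, ?_, ?_⟩
  · calc (c : G) * g * s * (c * g)⁻¹ = c * (g * s * g⁻¹) * (c : G)⁻¹ := by group
      _ = γ 1 := by rw [hg, h.mem_C.1 c.2, mul_inv_cancel_right]
  · have h3 : (c : G) * g * x * (c * g)⁻¹ = ((c * ⟨g * x * g⁻¹, h1⟩ * c⁻¹ : sub γ isC) : G) := by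
      change (c : G) * g * x * (c * g)⁻¹ = c * (g * x * g⁻¹) * (c : G)⁻¹
      group
    rw [h3]
    exact hcP

end

/-- uniqueness of the involution -/
theorem unique_of_pair {G : Type u} [Group G] {x s g t y : G} (h1 : g * s * g⁻¹ = t) (h2 : g * x * g⁻¹ = y)
    (hinv : ∀ w : G, orderOf w = 2 → w * t = t * w → w * y = y * w → w = t) :
    ∀ u : G, orderOf u = 2 → u * s = s * u → u * x = x * u → u = s := by
  intro u hu hus hux
  have h3 := hinv (g * u * g⁻¹) (by rw [← hu]; exact MulEquiv.orderOf_eq (MulAut.conj g) u) (by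
    rw [← h1]
    calc g * u * g⁻¹ * (g * s * g⁻¹) = g * (u * s) * g⁻¹ := by group
      _ = g * s * g⁻¹ * (g * u * g⁻¹) := by rw [hus]; group) (by
    rw [← h2]
    calc g * u * g⁻¹ * (g * x * g⁻¹) = g * (u * x) * g⁻¹ := by group
      _ = g * x * g⁻¹ * (g * u * g⁻¹) := by rw [hux]; group)
  rw [← h1] at h3
  exact mul_left_cancel (mul_right_cancel h3)

/-- an involution of the centralizer of an element, or odd order -/
theorem comps_of_odd {H : Type u} [Group H] [Finite H]
    (FT : ∀ (K : Type u) [Group K] [Finite K], Odd (Nat.card K) → Group.IsSolvable K) {p : ℕ}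
    (h : (∃ s : H, orderOf s = 2) → Comps p H) : Comps p H := by
  rcases Nat.even_or_odd (Nat.card H) with he | ho
  · exact h (exists_prime_orderOf_dvd_card' (hp := ⟨Nat.prime_two⟩) 2 (even_iff_two_dvd.1 he))
  · exact Comps.of_solvable (FT H ho)

section

variable {G : Type u} [Group G] {γ : ℕ → G} (h : Ctx γ)
  (hone : ∀ u : G, orderOf u = 2 → ∃ g : G, g * u * g⁻¹ = γ 1)
  (FT : ∀ (K : Type u) [Group K] [Finite K], Odd (Nat.card K) → Group.IsSolvable K)
  (h204 : ∀ (K : Type u) [Group K] [Finite K] [IsSimpleGroup K], ¬ IsCyclic K → ∃ E : Subgroup K, IsKleinFour E)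
include h hone h204

/-- a pair with a unique involution -/
theorem comps_of_pair {p : ℕ} (hp : p.Prime) (hp2 : p ≠ 2) (h357 : p = 3 ∨ p = 5 ∨ p = 7) {x : G}
    (hx : orderOf x = p) {s : G} (hs : orderOf s = 2) (hsx : s * x = x * s) {g y : G} (h1 : g * s * g⁻¹ = γ 1)
    (h2 : g * x * g⁻¹ = y)
    (hinv : ∀ w : G, orderOf w = 2 → w * γ 1 = γ 1 * w → w * y = y * w → w = γ 1) :
    Comps p ↥(centralizer ({x} : Set G)) := by
  have := h.fin
  let s' : ↥(centralizer ({x} : Set G)) := ⟨s, mem_centralizer_singleton_iff.2 hsx⟩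
  have hs' : orderOf s' = 2 := by rw [Subgroup.orderOf_mk, hs]
  refine comps_of_unique h204 hp hp2 hs' ?_ (hall' h hone h357 x hx s' hs')
  rintro ⟨u, hu⟩ hou hus
  apply Subtype.ext
  rw [Subgroup.orderOf_mk] at hou
  exact unique_of_pair h1 h2 hinv u hou (congrArg Subtype.val hus) (mem_centralizer_singleton_iff.1 hu)

include FT

/-- **the elements of order 5** -/
theorem comps_five (x : G) (hx : orderOf x = 5) : Comps 5 ↥(centralizer ({x} : Set G)) := by
  have := h.fin
  obtain ⟨f, F⟩ := Local.exists_epi h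
  refine comps_of_odd FT ?_
  rintro ⟨⟨s, hsx⟩, hs⟩
  rw [Subgroup.orderOf_mk] at hs
  rw [mem_centralizer_singleton_iff] at hsx
  obtain ⟨g, h1, h2⟩ := exists_pair h hone hx hs hsx (P := fun z => z = ev γ X5) (fun y hy => by
    obtain ⟨c, hc⟩ := exists_rep_five h F hy
    exact ⟨c, congrArg Subtype.val hc⟩)
  exact comps_of_pair h hone h204 Nat.prime_five (by norm_num) (by norm_num) hx hs hsx h1 h2
    (fun w hw hwa hwx => inv_five h F hw hwa hwx)

end

end Cfsg.Agent.CpAutTh.Mid

end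

-- merged: Cfsg.Agent.CpAutTh.RedThree
section

/-!
# The reduction `Red.main` with one more conclusion (helper96)

`main2` is `LThree.Red.main` (helper7) where, in addition, `p ∣ |K|` for the socle `K` of the almost simple quotient.
-/

set_option autoImplicit false
set_option linter.unusedSectionVars false
set_option linter.unusedVariables false

namespace Cfsg.Agent.CpAutTh.RedThree

open Subgroup Cfsg Cfsg.Agent.SignalizersComponents
open Cfsg.Agent.LThree (Comps)
open Cfsg.Agent.LThree.Red hiding main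

universe u v

/-- a perfect group of order divisible by `p`: so is the order of `L / Z(L)` -/
theorem dvd_card_quot {L : Type u} [Group L] [Finite L] {p : ℕ} (hp : p.Prime) (hL : Group.IsPerfect L)
    (h : p ∣ Nat.card L) : p ∣ Nat.card (L ⧸ center L) := by
  have : Fact p.Prime := ⟨hp⟩
  by_contra hc
  let P : Sylow p L := default
  have hPZ : (P : Subgroup L) ≤ center L := by
    intro z hz
    have h1 : orderOf (QuotientGroup.mk' (center L) z) ∣ Nat.card (L ⧸ center L) := _root_.orderOf_dvd_natCard _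
    obtain ⟨k, hk⟩ := P.isPGroup' ⟨z, hz⟩
    have hk' : z ^ p ^ k = 1 := congrArg Subtype.val hk
    have h2 : orderOf (QuotientGroup.mk' (center L) z) ∣ p ^ k := by
      apply orderOf_dvd_of_pow_eq_one
      rw [← map_pow, hk', map_one]
    have h3 : (Nat.card (L ⧸ center L)).Coprime (p ^ k) :=
      Nat.Coprime.pow_right k ((Nat.Prime.coprime_iff_not_dvd hp).2 hc).symm
    have h4 := Nat.eq_one_of_dvd_coprimes h3 h1 h2
    exact (QuotientGroup.eq_one_iff z).1 (orderOf_eq_one_iff.1 h4)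
  have h5 : (P : Subgroup L) = ⊥ := by
    rw [eq_bot_iff]
    intro z hz
    rw [mem_bot]
    exact CpAut.central_eq_one hL P (fun a ha b hb => (mem_center_iff.1 (hPZ ha) b).symm) (hPZ hz) hz
  have h6 := P.dvd_card_of_dvd_card h
  rw [h5, card_bot] at h6
  exact hp.one_lt.ne' (Nat.dvd_one.1 h6)

section

variable {H : Type u} [Group H] [Finite H] {p : ℕ}

/-- **The reduction.** Let `H` be a finite group in which the centralizers of involutions satisfy `Comps p`, and with
`CoreCond` for the involutions of `O_{p'}(H)`. If every almost simple quotient `H / W`, `|W|` odd, with socle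
`K ≅ L / Z(L)`, `p ∣ |K|`, `L` quasisimple with `Z(L)` a `p`-group, has `L` a `C_p`-group, then `Comps p H`. -/
theorem main2 (FT : ∀ (K : Type u) [Group K] [Finite K], Odd (Nat.card K) → Group.IsSolvable K) (hp : p.Prime)
    (hall : ∀ s : H, orderOf s = 2 → Comps p ↥(centralizer ({s} : Set H)))
    (hcore : ∀ (s : H) (_ : orderOf s = 2), s ∈ pPrimeCore p H →
      CoreCond p ↥(centralizer ({s} : Set H)) ⟨s, mem_centralizer_singleton_iff.2 rfl⟩)
    (hbad : ∀ (W : Subgroup H) [W.Normal] (K : Subgroup (H ⧸ W)) (L : Type u) [Group L] [Finite L],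
      Odd (Nat.card ↥W) → center H ≤ W → pPrimeCore p H ≤ W → K.Normal → IsSimpleGroup ↥K → ¬ IsMulCommutative ↥K →
      centralizer (K : Set (H ⧸ W)) = ⊥ → IsQuasisimple L → IsPGroup p ↥(center L) →
      Nonempty (L ⧸ center L ≃* ↥K) → p ∣ Nat.card ↥K → InC p L) : Comps p H := by
  have hn := Lib.Cores.pPrimeCore_normal (G := H) p
  have : Fact (Nat.Prime 2) := ⟨Nat.prime_two⟩
  rcases Nat.even_or_odd (Nat.card ↥(pPrimeCore p H)) with hR | hR
  · exact comps_of_even hp hR (fun s hs _ => hall s hs) hcore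
  intro L hL
  by_contra hLC
  set R := pPrimeCore p H with hRdef
  let π := QuotientGroup.mk' R
  have hb : pPrimeCore p (H ⧸ R) = ⊥ := Lib.Cores.pPrimeCore_quotient_pPrimeCore p
  let W0 := centralizer (L : Set (H ⧸ R))
  have hW0 : Odd (Nat.card ↥W0) := by
    rw [← Nat.not_even_iff_odd]
    intro he
    obtain ⟨y, hy⟩ := exists_prime_orderOf_dvd_card' 2 (even_iff_two_dvd.1 he)
    have hy2 : orderOf (y : H ⧸ R) = 2 := by rw [Subgroup.orderOf_coe, hy]
    obtain ⟨s, hs, hsy⟩ := exists_involution_lift R hR hy2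
    apply hLC
    refine inC_of_involution hR hL hs (hall s hs) ?_
    intro l hl
    change π s = y at hsy
    change π s * l = l * π s
    rw [hsy]
    exact (mem_centralizer_iff.1 y.2 l hl).symm
  have huniq : ∀ M : Subgroup (H ⧸ R), IsComponent M → M = L := by
    intro M hM
    by_contra hne
    have h1 := Components.component_le_centralizer_of_ne hM hL hne
    have h2 : Odd (Nat.card ↥M) := hW0.of_dvd_nat (card_dvd_of_le h1)
    exact Components.quasisimple_not_isSolvable hM.2 (FT _ h2)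
  have hLn : L.Normal := by
    refine ⟨fun n hn g => ?_⟩
    have h1 := huniq _ (Components.isComponent_conj g hL)
    have h2 : (MulAut.conj g) n ∈ L.map (MulAut.conj g).toMonoidHom := ⟨n, hn, rfl⟩
    rw [h1] at h2
    exact h2
  have hW0n : W0.Normal := Subgroup.normal_centralizer
  let W := W0.comap π
  have hWn : W.Normal := hW0n.comap π
  have hRW : R ≤ W := by
    intro r hr
    have h1 : π r = 1 := (QuotientGroup.eq_one_iff _).2 hr
    change π r ∈ W0
    rw [h1]
    exact one_mem _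
  have hWodd : Odd (Nat.card ↥W) := by
    rw [← Nat.not_even_iff_odd]
    intro he
    obtain ⟨y, hy⟩ := exists_prime_orderOf_dvd_card' 2 (even_iff_two_dvd.1 he)
    have hy2 : orderOf (y : H) = 2 := by rw [Subgroup.orderOf_coe, hy]
    have h1 : orderOf (⟨π y, y.2⟩ : ↥W0) ∣ 2 := by
      apply orderOf_dvd_of_pow_eq_one
      apply Subtype.ext
      change (π (y : H)) ^ 2 = 1
      rw [← map_pow, ← hy2, pow_orderOf_eq_one, map_one]
    have h2 : orderOf (⟨π y, y.2⟩ : ↥W0) ∣ Nat.card ↥W0 := _root_.orderOf_dvd_natCard _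
    have h3 : orderOf (⟨π y, y.2⟩ : ↥W0) = 1 :=
      Nat.eq_one_of_dvd_coprimes (Nat.coprime_two_right.2 hW0) h2 h1
    rw [orderOf_eq_one_iff] at h3
    have h4 : π (y : H) = 1 := congrArg Subtype.val h3
    have h5 : (y : H) ∈ R := (QuotientGroup.eq_one_iff _).1 h4
    have h6 : orderOf (⟨y, h5⟩ : ↥R) ∣ Nat.card ↥R := _root_.orderOf_dvd_natCard _
    rw [← Subgroup.orderOf_coe] at h6
    change orderOf (y : H) ∣ _ at h6
    rw [hy2] at h6
    exact (Nat.not_even_iff_odd.2 hR) (even_iff_two_dvd.2 h6)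
  let ψ : H ⧸ R →* H ⧸ W := QuotientGroup.map R W (MonoidHom.id H) hRW
  have hψ : Function.Surjective ψ := by
    intro y
    obtain ⟨g, rfl⟩ := QuotientGroup.mk'_surjective W y
    exact ⟨π g, rfl⟩
  have hker : ∀ x : H ⧸ R, ψ x = 1 ↔ x ∈ W0 := by
    intro x
    obtain ⟨g, rfl⟩ := QuotientGroup.mk'_surjective R x
    have h1 : ψ (QuotientGroup.mk' R g) = (g : H ⧸ W) := rfl
    rw [h1, QuotientGroup.eq_one_iff]
    rfl
  have hinf : ∀ x : ↥L, (x : H ⧸ R) ∈ W0 ↔ x ∈ center ↥L := by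
    intro x
    rw [mem_center_iff]
    constructor
    · intro hx g
      exact Subtype.ext (mem_centralizer_iff.1 hx g g.2)
    · intro hx
      rw [mem_centralizer_iff]
      intro g hg
      exact congrArg Subtype.val (hx ⟨g, hg⟩)
  let f : ↥L →* ↥(L.map ψ) := ψ.subgroupMap L
  have hf : Function.Surjective f := ψ.subgroupMap_surjective L
  have hfk : f.ker = center ↥L := by
    ext x
    rw [MonoidHom.mem_ker, ← hinf, ← hker]
    constructor
    · intro hx
      exact congrArg Subtype.val hx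
    · intro hx
      exact Subtype.ext hx
  let e : ↥L ⧸ center ↥L ≃* ↥(L.map ψ) :=
    (QuotientGroup.quotientMulEquivOfEq hfk.symm).trans (QuotientGroup.quotientKerEquivOfSurjective f hf)
  have hsimp : IsSimpleGroup (↥L ⧸ center ↥L) := hL.2.2
  have hnc : ¬ IsMulCommutative ↥(L.map ψ) := by
    intro hc
    apply Components.quasisimple_not_isSolvable hL.2
    rw [Group.isSolvable_iff_subgroup_quotient (center ↥L)]
    refine ⟨?_, ?_⟩
    · exact Group.isSolvable_of_comm fun a b => Subtype.ext (mem_center_iff.1 b.2 a)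
    · have h1 : Group.IsSolvable ↥(L.map ψ) := Group.isSolvable_of_comm fun a b => hc.is_comm.comm a b
      exact Group.isSolvable_of_isSolvable_injective (f := e.toMonoidHom) e.injective
  apply hLC
  refine hbad W (L.map ψ) ↥L hWodd ?_ hRW (Subgroup.Normal.map hLn ψ hψ) ?_ hnc ?_ hL.2
    (isPGroup_center_comp hp hb hL.1) ⟨e⟩ ?_
  · intro z hz
    change π z ∈ W0
    rw [mem_centralizer_iff]
    intro l hl
    obtain ⟨g, rfl⟩ := QuotientGroup.mk'_surjective R l
    change π g * π z = π z * π g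
    rw [← map_mul, ← map_mul, mem_center_iff.1 hz g]
  · exact (MulEquiv.isSimpleGroup_congr e).1 hsimp
  · rw [eq_bot_iff]
    intro y hy
    obtain ⟨h, rfl⟩ := hψ y
    rw [mem_bot, hker]
    -- `l ↦ [h, l]` is a homomorphism of `L` into `Z(L)`
    have hcz : ∀ l : ↥L, h * l * h⁻¹ * (l : H ⧸ R)⁻¹ ∈ W0 ∧ h * l * h⁻¹ * (l : H ⧸ R)⁻¹ ∈ L := by
      intro l
      refine ⟨?_, mul_mem (hLn.conj_mem l l.2 h) (inv_mem l.2)⟩
      rw [← hker]
      have h1 := mem_centralizer_iff.1 hy (ψ l) ⟨l, l.2, rfl⟩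
      rw [map_mul, map_mul, map_mul, map_inv, map_inv, ← h1]
      group
    have hcz' : ∀ l : ↥L, (⟨_, (hcz l).2⟩ : ↥L) ∈ center ↥L := fun l => (hinf _).1 (hcz l).1
    let φ : ↥L →* ↥(center ↥L) :=
      { toFun := fun l => ⟨_, hcz' l⟩
        map_one' := by
          apply Subtype.ext
          apply Subtype.ext
          change h * 1 * h⁻¹ * 1⁻¹ = 1
          group
        map_mul' := by
          intro a b
          apply Subtype.ext
          apply Subtype.ext
          change h * (a * b) * h⁻¹ * (a * b : H ⧸ R)⁻¹ = (h * a * h⁻¹ * (a : H ⧸ R)⁻¹) * (h * b * h⁻¹ * (b : H ⧸ R)⁻¹)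
          have h1 := congrArg Subtype.val (mem_center_iff.1 (hcz' b) a)
          change (a : H ⧸ R) * (h * b * h⁻¹ * (b : H ⧸ R)⁻¹) = (h * b * h⁻¹ * (b : H ⧸ R)⁻¹) * a at h1
          calc h * (a * b) * h⁻¹ * (a * b : H ⧸ R)⁻¹
              = (h * a * h⁻¹) * (h * b * h⁻¹ * (b : H ⧸ R)⁻¹) * (a : H ⧸ R)⁻¹ := by group
            _ = (h * a * h⁻¹) * (a : H ⧸ R)⁻¹ * ((a : H ⧸ R) * (h * b * h⁻¹ * (b : H ⧸ R)⁻¹)) * (a : H ⧸ R)⁻¹ := by
                group
            _ = (h * a * h⁻¹ * (a : H ⧸ R)⁻¹) * (h * b * h⁻¹ * (b : H ⧸ R)⁻¹) := by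
                rw [h1]
                group }
    rw [mem_centralizer_iff]
    intro l hl
    have h1 : φ ⟨l, hl⟩ = 1 := by
      let _ : CommGroup ↥(center ↥L) := { (inferInstance : Group ↥(center ↥L)) with
        mul_comm := fun a b => Subtype.ext (mem_center_iff.1 b.2 a) }
      exact CompBasic.hom_eq_one_of_perfect hL.2.1 φ ⟨l, hl⟩
    have h2 : h * l * h⁻¹ * l⁻¹ = 1 := congrArg (fun z : ↥(center ↥L) => ((z : ↥L) : H ⧸ R)) h1
    have h3 := mul_inv_eq_one.1 h2
    exact (mul_inv_eq_iff_eq_mul.1 h3).symm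
  · have h1 := dvd_card_quot hp hL.2.1 (CpAut.dvd_card_comp hp L hL)
    rwa [Nat.card_congr e.toEquiv] at h1

end

end Cfsg.Agent.CpAutTh.RedThree

end

-- merged: Cfsg.Agent.CpAut.LTwoEight
section

/-!
# S1814: the row `L_2(8)`, `p = 3`

`x = cj A * fld σ`. If `σ = 1` then `C(x)` is abelian. If `σ ≠ 1` then `tr g ∈ F_2` for `g ∈ C(x)`, so `g ^ 6 = 1`,
`|C(x)|` divides `72` and `C(x)` is solvable.
-/

set_option autoImplicit false

namespace Cfsg.Agent.CpAut.LTwoEight

open Subgroup Cfsg Matrix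
open Cfsg.Agent.LThree (Comps)
open Cfsg.Agent.ClassicalGeometry.AutPSL.Root Cfsg.Agent.ClassicalGeometry.AutPSL.Auto
  Cfsg.Agent.ClassicalGeometry.AutPSL.Main

/-- the commutant of a non-scalar `2 × 2` matrix is commutative -/
theorem comm_of_comm {F : Type*} [Field F] {A B C : Matrix (Fin 2) (Fin 2) F}
    (hA : ¬ (A 0 1 = 0 ∧ A 1 0 = 0 ∧ A 0 0 = A 1 1)) (hB : A * B = B * A) (hC : A * C = C * A) : B * C = C * B := by
  have key : ∀ B : Matrix (Fin 2) (Fin 2) F, A * B = B * A →
      A 0 1 * B 1 0 = B 0 1 * A 1 0 ∧ A 0 1 * (B 0 0 - B 1 1) = B 0 1 * (A 0 0 - A 1 1) ∧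
        A 1 0 * (B 0 0 - B 1 1) = B 1 0 * (A 0 0 - A 1 1) := by
    intro B hB
    have h00 := congrFun (congrFun hB 0) 0
    have h01 := congrFun (congrFun hB 0) 1
    have h10 := congrFun (congrFun hB 1) 0
    simp only [Matrix.mul_apply, Fin.sum_univ_two] at h00 h01 h10
    refine ⟨?_, ?_, ?_⟩
    · linear_combination h00
    · linear_combination (-1 : F) * h01
    · linear_combination h10
  obtain ⟨b1, b2, b3⟩ := key B hB
  obtain ⟨c1, c2, c3⟩ := key C hC
  have m : B 0 1 * C 1 0 = C 0 1 * B 1 0 ∧ B 0 1 * (C 0 0 - C 1 1) = C 0 1 * (B 0 0 - B 1 1) ∧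
      B 1 0 * (C 0 0 - C 1 1) = C 1 0 * (B 0 0 - B 1 1) := by
    by_cases h1 : A 0 1 = 0
    · by_cases h2 : A 1 0 = 0
      · have h3 : A 0 0 - A 1 1 ≠ 0 := fun h => hA ⟨h1, h2, sub_eq_zero.1 h⟩
        rw [h1] at b2 c2
        rw [h2] at b3 c3
        have e1 : B 0 1 = 0 := by
          have : B 0 1 * (A 0 0 - A 1 1) = 0 := by rw [← b2, zero_mul]
          exact (mul_eq_zero.1 this).resolve_right h3
        have e2 : B 1 0 = 0 := by
          have : B 1 0 * (A 0 0 - A 1 1) = 0 := by rw [← b3, zero_mul]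
          exact (mul_eq_zero.1 this).resolve_right h3
        have e3 : C 0 1 = 0 := by
          have : C 0 1 * (A 0 0 - A 1 1) = 0 := by rw [← c2, zero_mul]
          exact (mul_eq_zero.1 this).resolve_right h3
        have e4 : C 1 0 = 0 := by
          have : C 1 0 * (A 0 0 - A 1 1) = 0 := by rw [← c3, zero_mul]
          exact (mul_eq_zero.1 this).resolve_right h3
        rw [e1, e2, e3, e4]
        simp
      · refine ⟨?_, ?_, ?_⟩
        · apply mul_left_cancel₀ h2
          linear_combination C 1 0 * (-b1) + B 1 0 * c1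
        · apply mul_left_cancel₀ h2
          linear_combination (-(C 0 0 - C 1 1)) * b1 + (B 0 0 - B 1 1) * c1 +
            (B 1 0 * (C 0 0 - C 1 1) - C 1 0 * (B 0 0 - B 1 1)) * h1
        · apply mul_left_cancel₀ h2
          linear_combination B 1 0 * c3 - C 1 0 * b3
    · have m2 : B 0 1 * (C 0 0 - C 1 1) = C 0 1 * (B 0 0 - B 1 1) := by
        apply mul_left_cancel₀ h1
        linear_combination B 0 1 * c2 - C 0 1 * b2
      refine ⟨?_, m2, ?_⟩
      · apply mul_left_cancel₀ h1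
        linear_combination B 0 1 * c1 - C 0 1 * b1
      · apply mul_left_cancel₀ h1
        linear_combination (C 0 0 - C 1 1) * b1 - (B 0 0 - B 1 1) * c1 + A 1 0 * m2
  obtain ⟨m1, m2, m3⟩ := m
  ext i j
  fin_cases i <;> fin_cases j <;> simp only [Matrix.mul_apply, Fin.sum_univ_two, Fin.zero_eta, Fin.mk_one, Fin.isValue]
  · linear_combination m1
  · linear_combination (-1 : F) * m2
  · linear_combination m3
  · linear_combination (-1 : F) * m1

section

variable {F : Type} [Field F] [Fintype F]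

theorem charP_two (hF : Fintype.card F = 8) : CharP F 2 := by
  obtain ⟨p, hp⟩ := CharP.exists F
  obtain ⟨n, hpp, hn⟩ := FiniteField.card F p
  rw [hF] at hn
  have h1 : p ∣ 2 ^ 3 := by
    rw [show (2 : ℕ) ^ 3 = 8 by norm_num, hn]
    exact dvd_pow_self p n.2.ne'
  have h2 : p = 2 := (Nat.prime_dvd_prime_iff_eq hpp Nat.prime_two).1 (hpp.dvd_of_dvd_pow h1)
  rw [← h2]
  exact hp

/-- the fixed field of a nontrivial automorphism of the field with 8 elements is `F_2` -/
theorem fix_eq (hF : Fintype.card F = 8) {σ : F ≃+* F} (hσ : σ ≠ 1) {a : F} (ha : σ a = a) : a = 0 ∨ a = 1 := by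
  let E : Subfield F := (σ : F →+* F).eqLocusField (RingHom.id F)
  have hmem : ∀ b : F, b ∈ E ↔ σ b = b := fun b => Iff.rfl
  have h1 : Nat.card F = Nat.card E ^ Module.finrank E F := Module.natCard_eq_pow_finrank
  rw [Nat.card_eq_fintype_card, hF] at h1
  have hE2 : 2 ≤ Nat.card E := by
    have : Nontrivial E := inferInstance
    exact Finite.one_lt_card
  have hE8 : Nat.card E ≠ 8 := by
    intro h8
    apply hσ
    have h2 : E = ⊤ := by
      apply SetLike.coe_injective
      apply Set.eq_of_subset_of_ncard_le (Set.subset_univ _)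
      · rw [Set.ncard_univ, Nat.card_eq_fintype_card, hF]
        exact h8.ge
    apply RingEquiv.ext
    intro b
    have : b ∈ E := by rw [h2]; trivial
    exact (hmem b).1 this
  have h3 : Nat.card E = 2 := by
    set c := Nat.card E with hc
    set k := Module.finrank E F with hk
    have hc8 : c ≤ 8 := by
      rcases Nat.eq_zero_or_pos k with h0 | h0
      · rw [h0, pow_zero] at h1
        omega
      · calc c = c ^ 1 := (pow_one c).symm
          _ ≤ c ^ k := Nat.pow_le_pow_right (by omega) h0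
          _ = 8 := h1.symm
    have hdiv : c ∣ 8 := by
      rcases Nat.eq_zero_or_pos k with h0 | h0
      · rw [h0, pow_zero] at h1
        omega
      · rw [h1]
        exact dvd_pow_self c h0.ne'
    have hk4 : c ≠ 4 := by
      intro h4
      rw [h4] at h1
      have h5 : k ≤ 1 ∨ 2 ≤ k := by omega
      rcases h5 with h5 | h5
      · interval_cases k <;> omega
      · have := Nat.pow_le_pow_right (show 0 < 4 by norm_num) h5
        omega
    interval_cases c <;> omega
  -- `E = {0, 1}`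
  have h4 : ({0, 1} : Set F) = (E : Set F) := by
    apply Set.eq_of_subset_of_ncard_le
    · rintro b (rfl | rfl)
      · exact E.zero_mem
      · exact E.one_mem
    · rw [Set.ncard_pair zero_ne_one]
      exact h3.le
    · exact Set.toFinite _
  have h5 : a ∈ (E : Set F) := (hmem a).2 ha
  rw [← h4] at h5
  exact h5

omit [Fintype F] in
/-- `SL_2(F) → PSL_2(F)` is injective in characteristic two -/
theorem pr_injective [CharP F 2] : Function.Injective (pr : Matrix.SpecialLinearGroup (Fin 2) F →* _) := by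
  rw [injective_iff_map_eq_one]
  intro g hg
  rw [pr_eq_one_iff, Matrix.SpecialLinearGroup.mem_center_iff] at hg
  obtain ⟨r, hr, hg⟩ := hg
  rw [Fintype.card_fin] at hr
  have h1 : r = 1 := by
    have h2 : (r - 1) ^ 2 = 0 := by
      have h3 : (2 : F) = 0 := CharP.cast_eq_zero F 2
      linear_combination hr - (r - 1) * h3
    exact sub_eq_zero.1 (pow_eq_zero_iff (two_ne_zero) |>.1 h2)
  apply Subtype.ext
  rw [← hg, h1]
  exact map_one _

omit [Fintype F] in
/-- an element of `SL_2` in characteristic two with trace `0` or `1` satisfies `g ^ 6 = 1` -/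
theorem pow_six [CharP F 2] (g : Matrix.SpecialLinearGroup (Fin 2) F)
    (h : (g : Matrix (Fin 2) (Fin 2) F).trace = 0 ∨ (g : Matrix (Fin 2) (Fin 2) F).trace = 1) : g ^ 6 = 1 := by
  have h3 : (2 : F) = 0 := CharP.cast_eq_zero F 2
  have hdet := g.2
  rw [Matrix.det_fin_two] at hdet
  have hsq : (g : Matrix (Fin 2) (Fin 2) F) * (g : Matrix (Fin 2) (Fin 2) F) =
      (g : Matrix (Fin 2) (Fin 2) F).trace • (g : Matrix (Fin 2) (Fin 2) F) + 1 := by
    rw [Matrix.trace_fin_two]
    ext i j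
    fin_cases i <;> fin_cases j <;>
      simp only [Matrix.mul_apply, Fin.sum_univ_two, Fin.zero_eta, Fin.mk_one, Fin.isValue, Matrix.add_apply,
        Matrix.smul_apply, smul_eq_mul, Matrix.one_apply_eq, Matrix.one_apply_ne, ne_eq, zero_ne_one, one_ne_zero,
        not_false_eq_true]
    · linear_combination (-1 : F) * hdet + h3 * 0 - (1 : F) * h3 * (1 : F)
    · ring
    · ring
    · linear_combination (-1 : F) * hdet - h3
  rcases h with h | h
  · rw [h, zero_smul, zero_add] at hsq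
    have h2 : g * g = 1 := Subtype.ext hsq
    rw [show (6 : ℕ) = 2 * 3 by norm_num, pow_mul, pow_two, h2, one_pow]
  · rw [h, one_smul] at hsq
    have h4 : g ^ 3 = 1 := by
      apply Subtype.ext
      change (g : Matrix (Fin 2) (Fin 2) F) ^ 3 = 1
      have h5 : (1 : Matrix (Fin 2) (Fin 2) F) + 1 = 0 := by
        ext i j
        rw [Matrix.add_apply, Matrix.zero_apply]
        linear_combination (1 : Matrix (Fin 2) (Fin 2) F) i j * h3
      have h6 : (g : Matrix (Fin 2) (Fin 2) F) + (g : Matrix (Fin 2) (Fin 2) F) = 0 := by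
        ext i j
        rw [Matrix.add_apply, Matrix.zero_apply]
        linear_combination (g : Matrix (Fin 2) (Fin 2) F) i j * h3
      rw [pow_succ, pow_two, hsq, add_mul, one_mul, hsq, add_right_comm, h6, zero_add]
    rw [show (6 : ℕ) = 3 * 2 by norm_num, pow_mul, h4, one_pow]

theorem card_psl (hF : Fintype.card F = 8) : Nat.card (Matrix.ProjectiveSpecialLinearGroup (Fin 2) F) = 504 := by
  have h := S0243.result (F := F) hF 2 le_rfl
  rw [show Nat.gcd 2 (8 - 1) = 1 by decide, Fin.prod_univ_two] at h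
  norm_num only [_root_.one_mul, _root_.Fin.coe_ofNat_eq_mod, _root_.pow_zero, _root_.Nat.add_one_sub_one, _root_.pow_one] at h
  omega

/-- **The row `L_2(8)`.** -/
theorem l28 (hF : Fintype.card F = 8) : AutC 3 (Matrix.ProjectiveSpecialLinearGroup (Fin 2) F) := by
  intro x hx
  have hch := charP_two hF
  have : Fact (Nat.Prime 2) := ⟨Nat.prime_two⟩
  apply Comps.of_solvable
  obtain ⟨A, σ, rfl⟩ := surj_two 2 x
  by_cases hσ : σ = 1
  · -- the centralizer is commutative
    have hxe : (lift (cj A * fld σ) : MulAut (Matrix.ProjectiveSpecialLinearGroup (Fin 2) F)) = lift (cj A) := by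
      rw [hσ, map_one, mul_one]
    have hA : ¬ ((A : Matrix (Fin 2) (Fin 2) F) 0 1 = 0 ∧ (A : Matrix (Fin 2) (Fin 2) F) 1 0 = 0 ∧
        (A : Matrix (Fin 2) (Fin 2) F) 0 0 = (A : Matrix (Fin 2) (Fin 2) F) 1 1) := by
      rintro ⟨h1, h2, h3⟩
      have h4 : Matrix.scalar (Fin 2) ((A : Matrix (Fin 2) (Fin 2) F) 0 0) = (A : Matrix (Fin 2) (Fin 2) F) := by
        ext i j
        (revert i j; simp only [h1, h2, h3, _root_.Fin.forall_fin_succ, Fin.isValue, _root_.Matrix.scalar_apply, _root_.Fin.succ_zero_eq_one, _root_.IsEmpty.forall_iff, _root_.and_true, _root_.Matrix.diagonal_apply_eq, _root_.ne_eq, _root_.zero_ne_one, _root_.not_false_eq_true, _root_.Matrix.diagonal_apply_ne, _root_.and_self, _root_.Fin.succ_ne_zero])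
      rw [hxe, cj_eq_one_of_scalar h4, map_one, orderOf_one] at hx
      omega
    have hc : ∀ a b : ↥(fixedSubgroup (lift (cj A * fld σ) :
        MulAut (Matrix.ProjectiveSpecialLinearGroup (Fin 2) F))), a * b = b * a := by
      rintro ⟨a, ha⟩ ⟨b, hb⟩
      obtain ⟨g, rfl⟩ := pr_surjective a
      obtain ⟨h, rfl⟩ := pr_surjective b
      have hcomm : ∀ g : Matrix.SpecialLinearGroup (Fin 2) F,
          pr g ∈ fixedSubgroup (lift (cj A * fld σ) : MulAut (Matrix.ProjectiveSpecialLinearGroup (Fin 2) F)) →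
          (A : Matrix (Fin 2) (Fin 2) F) * g = g * (A : Matrix (Fin 2) (Fin 2) F) := by
        intro g hg
        have h1 : lift (cj A) (pr g) = pr g := by
          rw [hxe] at hg
          exact hg
        rw [lift_pr] at h1
        have h2 := congrArg Subtype.val (pr_injective h1)
        have h3 : (A : Matrix (Fin 2) (Fin 2) F) * g.1 * ((A⁻¹ : GL (Fin 2) F) : Matrix (Fin 2) (Fin 2) F) = g.1 := h2
        calc (A : Matrix (Fin 2) (Fin 2) F) * g.1 = (A : Matrix (Fin 2) (Fin 2) F) * g.1 *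
              (((A⁻¹ : GL (Fin 2) F) : Matrix (Fin 2) (Fin 2) F) * (A : Matrix (Fin 2) (Fin 2) F)) := by
              rw [← Units.val_mul, inv_mul_cancel, Units.val_one, mul_one]
          _ = _ := by rw [← mul_assoc, h3]
      have h1 := comm_of_comm hA (hcomm g ha) (hcomm h hb)
      apply Subtype.ext
      change pr g * pr h = pr h * pr g
      rw [← map_mul, ← map_mul]
      congr 1
      exact Subtype.ext h1
    let _ : CommGroup ↥(fixedSubgroup (lift (cj A * fld σ) :
      MulAut (Matrix.ProjectiveSpecialLinearGroup (Fin 2) F))) := { mul_comm := hc }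
    infer_instance
  · -- all elements have order dividing 6
    have h6 : ∀ a : ↥(fixedSubgroup (lift (cj A * fld σ) :
        MulAut (Matrix.ProjectiveSpecialLinearGroup (Fin 2) F))), a ^ 6 = 1 := by
      rintro ⟨a, ha⟩
      obtain ⟨g, rfl⟩ := pr_surjective a
      have h1 : lift (cj A * fld σ) (pr g) = pr g := ha
      rw [lift_pr] at h1
      have h2 := congrArg (fun m : Matrix.SpecialLinearGroup (Fin 2) F => (m : Matrix (Fin 2) (Fin 2) F).trace)
        (pr_injective h1)
      have h3 : ((A : Matrix (Fin 2) (Fin 2) F) * (fld σ g : Matrix (Fin 2) (Fin 2) F) *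
          ((A⁻¹ : GL (Fin 2) F) : Matrix (Fin 2) (Fin 2) F)).trace = (g : Matrix (Fin 2) (Fin 2) F).trace := h2
      rw [Matrix.trace_mul_comm, ← mul_assoc, ← Units.val_mul, inv_mul_cancel, Units.val_one, one_mul] at h3
      have h4 : σ ((g : Matrix (Fin 2) (Fin 2) F).trace) = (g : Matrix (Fin 2) (Fin 2) F).trace := by
        rw [Matrix.trace_fin_two, Matrix.trace_fin_two, coe_fld_apply, coe_fld_apply] at h3
        rw [Matrix.trace_fin_two, map_add]
        exact h3
      have h5 := pow_six g (fix_eq hF hσ h4)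
      apply Subtype.ext
      change pr g ^ 6 = 1
      rw [← map_pow, h5, map_one]
    have h7 : ¬ 7 ∣ Nat.card ↥(fixedSubgroup (lift (cj A * fld σ) :
        MulAut (Matrix.ProjectiveSpecialLinearGroup (Fin 2) F))) := by
      intro h
      have : Fact (Nat.Prime 7) := ⟨by norm_num⟩
      obtain ⟨a, ha⟩ := exists_prime_orderOf_dvd_card' 7 h
      have := orderOf_dvd_of_pow_eq_one (h6 a)
      rw [ha] at this
      omega
    have h8 : Nat.card ↥(fixedSubgroup (lift (cj A * fld σ) :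
        MulAut (Matrix.ProjectiveSpecialLinearGroup (Fin 2) F))) ∣ 504 := by
      rw [← card_psl hF]
      exact card_subgroup_dvd_card _
    have h9 : Nat.card ↥(fixedSubgroup (lift (cj A * fld σ) :
        MulAut (Matrix.ProjectiveSpecialLinearGroup (Fin 2) F))) ∣ 2 ^ 3 * 3 ^ 2 := by
      have h10 : (504 : ℕ) = 7 * (2 ^ 3 * 3 ^ 2) := by norm_num
      rw [h10] at h8
      exact Nat.Coprime.dvd_of_dvd_mul_left (((Nat.Prime.coprime_iff_not_dvd (by norm_num)).2 h7).symm) h8
    obtain ⟨d, e, hd, he, hde⟩ := (Nat.dvd_mul.1 h9)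
    obtain ⟨i, -, rfl⟩ := (Nat.dvd_prime_pow Nat.prime_two).1 hd
    obtain ⟨j, -, rfl⟩ := (Nat.dvd_prime_pow Nat.prime_three).1 he
    exact S0144.result 2 3 i j Nat.prime_two Nat.prime_three hde.symm

end

end Cfsg.Agent.CpAut.LTwoEight

end

-- merged: Cfsg.Agent.CpAutTh.SevenAux
section

/-!
# The Thompson group, `p = 7`: auxiliary facts (helper96)

* `mem_powers_of_comm` : even permutations of nine points commuting with a 7-cycle;
* `exists_sylow_central` : one class of involutions: every involution is central in a Sylow 2-subgroup;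
* `sq_of_four` : no elements of order 4 in `PSL_2(2^n)`;
* `psl_seven` : the CIT groups with `16 ∤ |K|`, `7 ∣ |K|` and an element of order 4: `PSL_2(7)`.
-/

set_option autoImplicit false

namespace Cfsg.Agent.CpAutTh.SevenAux

open Subgroup Cfsg Equiv Equiv.Perm

universe u

/-- even permutations of nine points commuting with a 7-cycle are powers of it -/
theorem mem_powers_of_comm {σ τ : Perm (Fin 9)} (hτ : τ.cycleType = {7}) (hc : σ * τ = τ * σ) (he : sign σ = 1) :
    ∃ i : ℕ, σ = τ ^ i := by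
  have hcyc : τ.IsCycle := Equiv.Perm.card_cycleType_eq_one.1 (by rw [hτ, Multiset.card_singleton])
  have hs7 : τ.support.card = 7 := by
    rw [← τ.sum_cycleType, hτ, Multiset.sum_singleton]
  obtain ⟨a, ha⟩ : ∃ a, τ a ≠ a := by
    by_contra hcon
    push Not at hcon
    have : τ = 1 := Equiv.ext hcon
    rw [this, Equiv.Perm.cycleType_one] at hτ
    exact absurd hτ (by decide)
  have hcm : ∀ b, σ (τ b) = τ (σ b) := fun b => by
    have := congrArg (fun π : Perm (Fin 9) => π b) hc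
    simpa only [Equiv.Perm.mul_apply] using this
  have hb : τ (σ a) ≠ σ a := by
    rw [← hcm]
    exact fun h => ha (σ.injective h)
  obtain ⟨i, hi⟩ := hcyc.exists_pow_eq ha hb
  refine ⟨i, ?_⟩
  set ρ : Perm (Fin 9) := (τ ^ i)⁻¹ * σ with hρ
  have hρσ : σ = τ ^ i * ρ := by rw [hρ, mul_inv_cancel_left]
  have hρτ : Commute ρ τ := by
    have h1 : Commute σ τ := hc
    have h2 : Commute ((τ ^ i)⁻¹) τ := ((Commute.refl τ).pow_left i).inv_left
    exact h2.mul_left h1
  have hρa : ρ a = a := by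
    rw [hρ, Equiv.Perm.mul_apply, ← hi, Equiv.Perm.inv_eq_iff_eq]
  have hfix : ∀ b, τ b ≠ b → ρ b = b := by
    intro b hb
    obtain ⟨j, hj⟩ := hcyc.exists_pow_eq ha hb
    have h1 := (hρτ.pow_right j).eq
    have h2 := congrArg (fun π : Perm (Fin 9) => π a) h1
    simp only [Equiv.Perm.mul_apply] at h2
    rw [← hj, h2, hρa]
  have hsub : ρ.support ⊆ τ.supportᶜ := by
    intro b hb
    rw [Finset.mem_compl]
    intro h1
    exact (Equiv.Perm.mem_support.1 hb) (hfix b (Equiv.Perm.mem_support.1 h1))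
  have hcard : ρ.support.card ≤ 2 := by
    refine (Finset.card_le_card hsub).trans ?_
    rw [Finset.card_compl, hs7, Fintype.card_fin]
  have hsτ : sign τ = 1 := by
    rw [Equiv.Perm.sign_of_cycleType, hτ]
    decide
  have hsρ : sign ρ = 1 := by
    rw [hρ, map_mul, map_inv, map_pow, hsτ, he, one_pow, inv_one, one_mul]
  by_cases h1 : ρ = 1
  · rw [hρσ, h1, mul_one]
  · exfalso
    have h2 := Equiv.Perm.two_le_card_support_of_ne_one h1
    have h3 : ρ.support.card = 2 := le_antisymm hcard h2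
    have h4 := (Equiv.Perm.card_support_eq_two.1 h3).sign_eq
    rw [hsρ] at h4
    exact absurd h4 (by decide)

/-- one class of involutions -/
theorem exists_sylow_central {H : Type u} [Group H] [Finite H] {s : H} (hs : orderOf s = 2)
    (hconj : ∀ u : H, orderOf u = 2 → ∃ g : H, g * s * g⁻¹ = u) :
    ∃ P : Sylow 2 H, s ∈ (P : Subgroup H) ∧ ∀ y ∈ (P : Subgroup H), y * s = s * y := by
  have : Fact (Nat.Prime 2) := ⟨Nat.prime_two⟩
  have hps : IsPGroup 2 ↥(zpowers s) := IsPGroup.of_card (n := 1) (by rw [Nat.card_zpowers, hs, pow_one])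
  obtain ⟨P0, hP0⟩ := hps.exists_le_sylow
  have hsP : s ∈ (P0 : Subgroup H) := hP0 (mem_zpowers s)
  have hnt : Nontrivial ↥(P0 : Subgroup H) := by
    refine ⟨⟨⟨s, hsP⟩, 1, fun h => ?_⟩⟩
    have h1 : s = 1 := congrArg Subtype.val h
    rw [h1, orderOf_one] at hs
    omega
  have hcn := P0.isPGroup'.center_nontrivial
  obtain ⟨z, hz⟩ : ∃ z : ↥(center ↥(P0 : Subgroup H)), orderOf z = 2 := by
    apply exists_prime_orderOf_dvd_card' 2
    obtain ⟨n, hn⟩ := IsPGroup.iff_card.1 (P0.isPGroup'.to_subgroup (center ↥(P0 : Subgroup H)))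
    have h1 : n ≠ 0 := by
      rintro rfl
      rw [pow_zero] at hn
      exact (Finite.one_lt_card (α := ↥(center ↥(P0 : Subgroup H)))).ne' hn
    rw [hn]
    exact dvd_pow_self 2 h1
  obtain ⟨g, hg⟩ := hconj ((z : ↥(P0 : Subgroup H)) : H) (by
    rw [Subgroup.orderOf_coe, Subgroup.orderOf_coe, hz])
  have hmem : ∀ y : H, y ∈ ((g⁻¹ • P0 : Sylow 2 H) : Subgroup H) ↔ g * y * g⁻¹ ∈ (P0 : Subgroup H) := by
    intro y
    rw [Sylow.coe_subgroup_smul, Subgroup.mem_pointwise_smul_iff_inv_smul_mem, ← map_inv, inv_inv, MulAut.smul_def,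
      MulAut.conj_apply]
  refine ⟨g⁻¹ • P0, ?_, ?_⟩
  · rw [hmem, hg]
    exact (z : ↥(P0 : Subgroup H)).2
  · intro y hy
    rw [hmem] at hy
    have h1 := congrArg Subtype.val (mem_center_iff.1 z.2 ⟨_, hy⟩)
    change g * y * g⁻¹ * ((z : ↥(P0 : Subgroup H)) : H) = ((z : ↥(P0 : Subgroup H)) : H) * (g * y * g⁻¹) at h1
    rw [← hg] at h1
    have h2 : g * (y * s) * g⁻¹ = g * (s * y) * g⁻¹ := by
      calc g * (y * s) * g⁻¹ = g * y * g⁻¹ * (g * s * g⁻¹) := by group
        _ = g * s * g⁻¹ * (g * y * g⁻¹) := h1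
        _ = g * (s * y) * g⁻¹ := by group
    exact mul_left_cancel (mul_right_cancel h2)

/-- elements of order 4 in characteristic 2 -/
theorem sq_of_four {F : Type} [Field F] [CharP F 2] (g : Matrix.SpecialLinearGroup (Fin 2) F) (h : g ^ 4 = 1) :
    g ^ 2 = 1 := by
  have h3 : (2 : F) = 0 := CharP.cast_eq_zero F 2
  have hdet := g.2
  rw [Matrix.det_fin_two] at hdet
  have hsq : (g : Matrix (Fin 2) (Fin 2) F) * (g : Matrix (Fin 2) (Fin 2) F) =
      (g : Matrix (Fin 2) (Fin 2) F).trace • (g : Matrix (Fin 2) (Fin 2) F) + 1 := by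
    rw [Matrix.trace_fin_two]
    ext i j
    fin_cases i <;> fin_cases j <;>
      simp only [Matrix.mul_apply, Fin.sum_univ_two, Fin.zero_eta, Fin.mk_one, Fin.isValue, Matrix.add_apply,
        Matrix.smul_apply, smul_eq_mul, Matrix.one_apply_eq, Matrix.one_apply_ne, ne_eq, zero_ne_one, one_ne_zero,
        not_false_eq_true]
    · linear_combination (-1 : F) * hdet + h3 * 0 - (1 : F) * h3 * (1 : F)
    · ring
    · ring
    · linear_combination (-1 : F) * hdet - h3
  have h4 : (g : Matrix (Fin 2) (Fin 2) F) * (g : Matrix (Fin 2) (Fin 2) F) *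
      ((g : Matrix (Fin 2) (Fin 2) F) * (g : Matrix (Fin 2) (Fin 2) F)) = 1 := by
    have h5 : g * g * (g * g) = 1 := by rw [← h]; simp only [pow_succ, pow_zero, one_mul, mul_assoc]
    exact congrArg Subtype.val h5
  set A := (g : Matrix (Fin 2) (Fin 2) F) with hA
  set t := A.trace with ht
  have h6 : A + A = 0 := by
    ext i j
    rw [Matrix.add_apply, Matrix.zero_apply]
    linear_combination A i j * h3
  have h7 : A * A * (A * A) = (t * t) • (A * A) + 1 := by
    conv_lhs => rw [hsq]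
    rw [add_mul, mul_add, one_mul, mul_one, Matrix.smul_mul, Matrix.mul_smul, smul_smul]
    have h8 : t • A + (t • A + 1) = 1 := by
      rw [← add_assoc, ← smul_add, h6, smul_zero, zero_add]
    rw [add_assoc, h8]
  have h8 : (t * t) • (A * A) = 0 := by
    rw [h4] at h7
    exact (right_eq_add.1 h7)
  have h9 : t * t = 0 := by
    have h10 : (t * t) • (A * A) * (A * A) = 0 := by rw [h8, zero_mul]
    rw [Matrix.smul_mul, h4] at h10
    have h11 := congrFun (congrFun h10 0) 0
    simpa using h11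
  have h10 : t = 0 := mul_self_eq_zero.1 h9
  rw [h10, zero_smul, zero_add] at hsq
  rw [pow_two]
  exact Subtype.ext hsq

/-- the same in `PSL_2` -/
theorem psl_sq_of_four {F : Type} [Field F] [CharP F 2] (g : Matrix.ProjectiveSpecialLinearGroup (Fin 2) F)
    (h : g ^ 4 = 1) : g ^ 2 = 1 := by
  obtain ⟨A, rfl⟩ := QuotientGroup.mk'_surjective (Subgroup.center (Matrix.SpecialLinearGroup (Fin 2) F)) g
  have h1 : A ^ 4 = 1 := by
    apply CpAut.LTwoEight.pr_injective
    change QuotientGroup.mk' _ (A ^ 4) = QuotientGroup.mk' _ 1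
    rw [map_pow, h, map_one]
  rw [← map_pow, sq_of_four A h1, map_one]

/-- the arithmetic of the prime case -/
theorem prime_case {q N : ℕ} (hq : q.Prime) (hodd : Odd q) (hN : 2 * N = q * (q ^ 2 - 1)) (h16 : ¬ 16 ∣ N) (h7 : 7 ∣ N)
    (hk : ∃ k : ℕ, q = 2 ^ k + 1 ∨ q + 1 = 2 ^ k) : q = 7 := by
  obtain ⟨k, hk⟩ := hk
  have hq3 : 3 ≤ q := by
    have := hq.two_le
    rcases hodd with ⟨m, rfl⟩
    omega
  rcases le_or_gt k 3 with h3 | h4
  · interval_cases k
    · rcases hk with rfl | hk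
      · omega
      · omega
    · rcases hk with rfl | hk
      · norm_num at hN
        omega
      · omega
    · rcases hk with rfl | hk
      · norm_num at hN
        omega
      · obtain rfl : q = 3 := by omega
        norm_num at hN
        omega
    · rcases hk with rfl | hk
      · exact absurd hq (by norm_num)
      · omega
  · exfalso
    apply h16
    obtain ⟨j, rfl⟩ : ∃ j, k = j + 4 := ⟨k - 4, by omega⟩
    have h32 : 32 ∣ q ^ 2 - 1 := by
      rcases hk with rfl | hk
      · refine ⟨2 ^ j * (2 ^ (j + 3) + 1), ?_⟩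
        have : (2 ^ (j + 4) + 1) ^ 2 = 32 * (2 ^ j * (2 ^ (j + 3) + 1)) + 1 := by ring
        rw [this]
        omega
      · obtain ⟨m, hm⟩ : ∃ m, m = 2 ^ j := ⟨_, rfl⟩
        have h5 : q = 16 * m - 1 := by
          have : 2 ^ (j + 4) = 16 * m := by rw [hm]; ring
          omega
        have hm1 : 1 ≤ m := by rw [hm]; exact Nat.one_le_two_pow
        obtain ⟨n, rfl⟩ : ∃ n, m = n + 1 := ⟨m - 1, by omega⟩
        have h6 : q = 16 * n + 15 := by omega
        rw [h6]
        refine ⟨8 * n ^ 2 + 15 * n + 7, ?_⟩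
        have : (16 * n + 15) ^ 2 = 32 * (8 * n ^ 2 + 15 * n + 7) + 1 := by ring
        rw [this]
        omega
    obtain ⟨c, hc⟩ := h32
    rw [hc] at hN
    refine ⟨q * c, ?_⟩
    have : 2 * N = 2 * (16 * (q * c)) := by rw [hN]; ring
    (clear * - h16 this; omega)

/-- the even case -/
theorem even_case {n N : ℕ} (hN : N = 2 ^ n * ((2 ^ n) ^ 2 - 1)) (h16 : ¬ 16 ∣ N) (h7 : 7 ∣ N) (h1 : 1 < 2 ^ n) :
    n = 3 := by
  rcases le_or_gt n 3 with h3 | h4
  · interval_cases n
    · omega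
    · omega
    · omega
    · rfl
  · exfalso
    apply h16
    obtain ⟨j, rfl⟩ : ∃ j, n = j + 4 := ⟨n - 4, by omega⟩
    rw [hN]
    refine dvd_mul_of_dvd_left ?_ _
    exact ⟨2 ^ j, by ring⟩

/-- **the recognition for `p = 7`** -/
theorem psl_seven (h348 : ∀ (K : Type u) [Group K] [Finite K] [IsSimpleGroup K], (∃ a b : K, a * b ≠ b * a) →
    (∀ t : K, orderOf t = 2 → IsPGroup 2 (Subgroup.centralizer ({t} : Set K))) →
    (∃ (F : Type) (_ : Field F) (_ : Fintype F),
        (Fintype.card F = 9 ∨ (∃ n : ℕ, Fintype.card F = 2 ^ n) ∨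
          ((Fintype.card F).Prime ∧ ∃ k : ℕ, Fintype.card F = 2 ^ k + 1 ∨ Fintype.card F + 1 = 2 ^ k)) ∧
        Nonempty (K ≃* Matrix.ProjectiveSpecialLinearGroup (Fin 2) F)) ∨
    (∃ (F : Type) (_ : Field F) (_ : Fintype F), Fintype.card F = 4 ∧
        Nonempty (K ≃* Matrix.ProjectiveSpecialLinearGroup (Fin 3) F)) ∨
    Cfsg.IsSuzuki K) {K : Type u} [Group K] [Finite K] (hs : IsSimpleGroup K) (hna : ∃ a b : K, a * b ≠ b * a)
    (hC : ∀ t : K, orderOf t = 2 → IsPGroup 2 (Subgroup.centralizer ({t} : Set K))) (h16 : ¬ 16 ∣ Nat.card K)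
    (h7 : 7 ∣ Nat.card K) (h4 : 8 ∣ Nat.card K → ∃ g : K, orderOf g = 4) :
    ∃ (F : Type) (_ : Field F) (_ : Fintype F), Fintype.card F = 7 ∧
      Nonempty (K ≃* Matrix.ProjectiveSpecialLinearGroup (Fin 2) F) := by
  rcases h348 K hna hC with ⟨F, hF, hFF, hq, ⟨e⟩⟩ | ⟨F, hF, hFF, hq, ⟨e⟩⟩ | ⟨-, m, hm, hcard⟩
  · have hN := Nat.card_congr e.toEquiv
    rcases hq with hq | ⟨n, hn⟩ | ⟨hpr, k, hk⟩
    · exfalso
      have h1 := SmallSimple.PSLTwoPart.card_psl_two_odd (F := F) (by rw [hq]; decide)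
      rw [← hN, hq] at h1
      norm_num at h1
      omega
    · exfalso
      have h0 : 1 < Fintype.card F := Fintype.one_lt_card
      have hne : n ≠ 0 := by
        rintro rfl
        rw [hn, pow_zero] at h0
        omega
      have he : Even (Fintype.card F) := by
        rw [hn]
        exact (Nat.even_pow.2 ⟨even_two, hne⟩)
      have h1 := SmallSimple.PSLTwoPart.card_psl_two_even (F := F) he
      rw [← hN] at h1
      have h2 := even_case (n := n) (by rw [h1, hn]) h16 h7 (by rw [← hn]; exact h0)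
      subst h2
      have hF8 : Fintype.card F = 8 := by rw [hn]; norm_num
      have hch := CpAut.LTwoEight.charP_two hF8
      obtain ⟨g, hg⟩ := h4 (by
        rw [h1, hF8]
        exact Dvd.intro _ rfl)
      have h5 : (e g) ^ 4 = 1 := by rw [← map_pow, ← hg, pow_orderOf_eq_one, map_one]
      have h6 := psl_sq_of_four (e g) h5
      rw [← map_pow, map_eq_one_iff e e.injective] at h6
      have h7 := orderOf_dvd_of_pow_eq_one h6
      rw [hg] at h7
      exact absurd h7 (by norm_num)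
    · rcases Nat.Prime.eq_two_or_odd' hpr with h2 | ho
      · exfalso
        have h1 := SmallSimple.PSLTwoPart.card_psl_two_even (F := F) (by rw [h2]; exact even_two)
        rw [← hN, h2] at h1
        norm_num at h1
        omega
      · have h1 := SmallSimple.PSLTwoPart.card_psl_two_odd (F := F) ho
        rw [← hN] at h1
        exact ⟨F, hF, hFF, prime_case hpr ho h1 h16 h7 ⟨k, hk⟩, ⟨e⟩⟩
  · exfalso
    have h1 := Nat.card_congr e.toEquiv
    have h := Cfsg.Agent.S0243.result (F := F) (q := 4) hq 3 (by norm_num)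
    simp only [Fin.prod_univ_three] at h
    have h2 : Nat.gcd 3 (4 - 1) * ((4 - 1) * Nat.card (Matrix.ProjectiveSpecialLinearGroup (Fin 3) F)) =
      (64 - 1) * (64 - 4) * (64 - 16) := h
    have h3 : Nat.gcd 3 (4 - 1) = 3 := by decide
    rw [h3, ← h1] at h2
    omega
  · exfalso
    apply h16
    rw [hcard]
    refine dvd_mul_of_dvd_left (dvd_mul_of_dvd_left ?_ _) _
    have h1 : (2 ^ (2 * m + 1)) ^ 2 = 16 * (4 ^ (m - 1) * 4 ^ (m - 1) * 4) := by
      obtain ⟨j, rfl⟩ : ∃ j, m = j + 1 := ⟨m - 1, by omega⟩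
      have : (4 : ℕ) ^ j = 2 ^ (2 * j) := by rw [pow_mul]; norm_num
      rw [Nat.add_sub_cancel, this]
      ring
    rw [h1]
    exact Dvd.intro _ rfl

end Cfsg.Agent.CpAutTh.SevenAux

end

-- merged: Cfsg.Agent.CpAutTh.Seven
section

/-!
# The Thompson group: elements of order 7 (helper96)

`comps_seven` : `Comps 7 C(x)`, `x` of order 7.
-/

set_option autoImplicit false
set_option maxRecDepth 100000

namespace Cfsg.Agent.CpAutTh.Seven

open Subgroup Cfsg
open Cfsg.Agent.Th.Base Cfsg.Agent.Th.Word Cfsg.Agent.Th.RelWords Cfsg.Agent.Th.PermTab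
  Cfsg.Agent.Th.KOracle Cfsg.Agent.Th.KPerm Cfsg.Agent.Th.NineAct Cfsg.Agent.Th.CStruct
  Cfsg.Agent.Th.COracleDef Cfsg.Agent.Th.COracleSound
open Cfsg.Agent.KFacts.Th.Mask Cfsg.Agent.KFacts.Th.Struct
open Cfsg.Agent.CpAutTh.Data Cfsg.Agent.CpAutTh.Alt Cfsg.Agent.CpAutTh.RankOne Cfsg.Agent.CpAutTh.Local
  Cfsg.Agent.CpAutTh.Mid Cfsg.Agent.CpAutTh.SevenAux
open Cfsg.Agent.LThree (Comps)
open Cfsg.Agent.SignalizersComponents

universe u

/-- finite fields -/
theorem charP_of_card {F : Type} [Field F] [Fintype F] {p n : ℕ} (hp : p.Prime) (hF : Fintype.card F = p ^ n) :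
    CharP F p := by
  obtain ⟨r, hr⟩ := CharP.exists F
  obtain ⟨m, hrp, hm⟩ := FiniteField.card F r
  rw [hF] at hm
  have h1 : r ∣ p ^ n := by
    rw [hm]
    exact dvd_pow_self r m.2.ne'
  have h2 := (Nat.prime_dvd_prime_iff_eq hrp hp).1 (hrp.dvd_of_dvd_pow h1)
  rw [← h2]
  exact hr

/-- components of `H / O_{p'}(H)` if it is solvable -/
theorem comps_of_quot_solvable {H : Type u} [Group H] [Finite H] {p : ℕ}
    (hs : Group.IsSolvable (H ⧸ pPrimeCore p H)) : Comps p H := by
  intro K hK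
  exfalso
  apply Components.quasisimple_not_isSolvable hK.2
  exact Group.isSolvable_of_isSolvable_injective K.subtype_injective

theorem conj_trans {H : Type u} [Group H] {g g' s u r : H} (hg : g * s * g⁻¹ = u) (hg' : g' * s * g'⁻¹ = r) :
    g * g'⁻¹ * r * (g * g'⁻¹)⁻¹ = u := by
  rw [← hg, ← hg']
  group

theorem conj_symm {H : Type u} [Group H] {g s u : H} (hg : g * s * g⁻¹ = u) : g⁻¹ * u * g⁻¹⁻¹ = s := by
  rw [← hg]
  group

/-- the dihedral group `C_Q(X7)` -/
def T {G : Type u} [Group G] (γ : ℕ → G) : Subgroup G := Subgroup.closure ({γ 1, cc γ 0, cc γ 1} : Set G)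

section

variable {G : Type u} [Group G] {γ : ℕ → G} (h : Ctx γ)
include h

theorem T_le : T γ ≤ Q0 γ := by
  unfold T
  rw [closure_le]
  rintro y (rfl | rfl | rfl)
  · exact h.a_mem
  · exact h.cc_mem 0
  · exact h.cc_mem 1

theorem comm_gen {y : G} (hy : y ∈ ({γ 1, cc γ 0, cc γ 1} : Set G)) : y * ev γ X7 = ev γ X7 * y := by
  have h6 : ev γ X7 = γ 6 := by
    unfold X7
    rw [ev_singleton]
  rw [h6]
  have key : (γ 6)⁻¹ * y * γ 6 = y := by
    rcases hy with rfl | rfl | rfl
    · exact h.a_conj (h.letter_mem (by simp))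
    · exact h.cc_conj' (x := 6) (by simp) 0 0 (by decide +kernel)
    · exact h.cc_conj' (x := 6) (by simp) 1 1 (by decide +kernel)
  rw [mul_assoc, inv_mul_eq_iff_eq_mul] at key
  exact key

theorem T_comm {q : G} (hq : q ∈ T γ) : q * ev γ X7 = ev γ X7 * q := by
  have h1 : T γ ≤ centralizer ({ev γ X7} : Set G) := by
    unfold T
    rw [closure_le]
    intro y hy
    exact mem_centralizer_singleton_iff.2 (comm_gen h hy)
  exact mem_centralizer_singleton_iff.1 (h1 hq)

theorem T_a {q : G} (hq : q ∈ T γ) : q * γ 1 = γ 1 * q := (h.Q_comm (T_le h hq)).symm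

theorem gen_two {y : G} (hy : y ∈ ({γ 1, cc γ 0, cc γ 1} : Set G)) : y * y = 1 := by
  rcases hy with rfl | rfl | rfl
  · exact h.aa
  · exact h.data.cc 0
  · exact h.data.cc 1

theorem card_T : Nat.card ↥(T γ) ≤ 8 := by
  have hfin := h.fin
  -- the list of the elements
  let g : Fin 4 × Fin 2 → G := fun z =>
    (match z.1 with
      | 0 => 1
      | 1 => cc γ 0 * cc γ 1
      | 2 => cc γ 1
      | 3 => cc γ 0) * γ 1 ^ (z.2 : ℕ)
  have key : ∀ q ∈ T γ, ∃ z, g z = q := by
    intro q hq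
    obtain ⟨m, hm, hm2⟩ := comm_mask h chk7 fix7 (T_le h hq) (T_comm h hq)
    have hk : ∀ (i : Fin 4) (y : G), y ∈ Q0 γ → HM (γ 1) (cc γ) y m → g (i, 0) = y * γ 1 ^ 0 →
        g (i, 1) = y * γ 1 ^ 1 → ∃ z, g z = q := by
      intro i y hyQ hym h0 h1
      rcases eq_of_mask h.data h.cardQ hyQ (T_le h hq) hym hm2 with h3 | h3
      · exact ⟨(i, 0), by rw [h0, h3, pow_zero, mul_one]⟩
      · exact ⟨(i, 1), by rw [h1, h3, pow_one]⟩
    unfold F7 at hm
    rw [List.mem_cons, List.mem_cons, List.mem_cons, List.mem_singleton] at hm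
    rcases hm with rfl | rfl | rfl | rfl
    · exact hk 0 1 (one_mem _) (mask_one h.data) rfl rfl
    · exact hk 1 (cc γ 0 * cc γ 1) (mul_mem (h.cc_mem 0) (h.cc_mem 1))
        (_root_.Cfsg.Agent.KFacts.Th.Mask.mul h.data (h.cc_mem 0) (mask_c h.data 0) (mask_c h.data 1)) rfl rfl
    · exact hk 2 (cc γ 1) (h.cc_mem 1) (mask_c h.data 1) rfl rfl
    · exact hk 3 (cc γ 0) (h.cc_mem 0) (mask_c h.data 0) rfl rfl
  choose z hz using key
  have hinj : Function.Injective fun q : ↥(T γ) => z q.1 q.2 := by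
    intro a b hab
    apply Subtype.ext
    have h1 : g (z a.1 a.2) = g (z b.1 b.2) := congrArg g hab
    rwa [hz, hz] at h1
  have h1 := Nat.card_le_card_of_injective _ hinj
  have h2 : Nat.card (Fin 4 × Fin 2) = 8 := by
    rw [Nat.card_eq_fintype_card]
    rfl
  rwa [h2] at h1

theorem w01 : (cc γ 0 * cc γ 1) * (cc γ 0 * cc γ 1) = γ 1 := by
  refine sq_a h (S := [0, 1]) (by decide) (by decide +kernel) (mul_mem (h.cc_mem 0) (h.cc_mem 1))
    (_root_.Cfsg.Agent.KFacts.Th.Mask.mul h.data (h.cc_mem 0) (mask_c h.data 0) (mask_c h.data 1)) (by decide +kernel)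

theorem order_w01 : orderOf (cc γ 0 * cc γ 1) = 4 := by
  have h1 := w01 h
  have : Fact (Nat.Prime 2) := ⟨Nat.prime_two⟩
  refine orderOf_eq_prime_pow (p := 2) (n := 1) (x := cc γ 0 * cc γ 1) ?_ ?_
  · rw [pow_one, pow_two, h1]
    exact h.a1
  · rw [show 2 ^ (1 + 1) = 2 * 2 by norm_num, pow_mul, pow_two, pow_two, h1, h.aa]

variable {f : sub γ isC →* alternatingGroup (Fin 9)} (F : Epi γ f)
include F

/-- the structure of `C_C(X7)` -/
theorem struct {y : G} (hya : y * γ 1 = γ 1 * y) (hyx : y * ev γ X7 = ev γ X7 * y) :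
    ∃ i : ℕ, ∃ q ∈ T γ, y = ev γ X7 ^ i * q := by
  let ye : sub γ isC := ⟨y, h.mem_C.2 hya⟩
  let xe : sub γ isC := ⟨ev γ X7, ev_mem_sub c7⟩
  have hcx : ye * xe = xe * ye := Subtype.ext hyx
  obtain ⟨i, hi⟩ := mem_powers_of_comm (σ := ((f ye : alternatingGroup (Fin 9)) : Equiv.Perm (Fin 9))) (τ := pm9 X7)
    t7 (by
      rw [← F.word X7 c7]
      have := congrArg (fun z => ((f z : alternatingGroup (Fin 9)) : Equiv.Perm (Fin 9))) hcx
      simpa only [_root_.map_mul, _root_.Subgroup.coe_mul] using this) (Equiv.Perm.mem_alternatingGroup.1 (f ye).2)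
  have hfi : f ye = f (xe ^ i) := by
    apply Subtype.ext
    rw [map_pow, Subgroup.coe_pow, hi, F.word X7 c7]
  have h1 : (xe ^ i)⁻¹ * ye ∈ f.ker := by rw [MonoidHom.mem_ker, map_mul, map_inv, hfi, inv_mul_cancel]
  have h2 : (ev γ X7 ^ i)⁻¹ * y ∈ Q0 γ := (mem_ker F).1 h1
  refine ⟨i, (ev γ X7 ^ i)⁻¹ * y, ?_, by rw [mul_inv_cancel_left]⟩
  refine mem_seven h h2 ?_
  have h3 : Commute ((ev γ X7 ^ i)⁻¹) (ev γ X7) := ((Commute.refl _).pow_left i).inv_left
  have h4 : Commute y (ev γ X7) := hyx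
  exact (h3.mul_left h4).eq

end

section

variable {G : Type u} [Group G] {γ : ℕ → G} (h : Ctx γ)
  (hone : ∀ u : G, orderOf u = 2 → ∃ g : G, g * u * g⁻¹ = γ 1)
  (FT : ∀ (K : Type u) [Group K] [Finite K], Odd (Nat.card K) → Group.IsSolvable K)
  (h348 : ∀ (K : Type u) [Group K] [Finite K] [IsSimpleGroup K], (∃ a b : K, a * b ≠ b * a) →
    (∀ t : K, orderOf t = 2 → IsPGroup 2 (Subgroup.centralizer ({t} : Set K))) →
    (∃ (F : Type) (_ : Field F) (_ : Fintype F),
        (Fintype.card F = 9 ∨ (∃ n : ℕ, Fintype.card F = 2 ^ n) ∨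
          ((Fintype.card F).Prime ∧ ∃ k : ℕ, Fintype.card F = 2 ^ k + 1 ∨ Fintype.card F + 1 = 2 ^ k)) ∧
        Nonempty (K ≃* Matrix.ProjectiveSpecialLinearGroup (Fin 2) F)) ∨
    (∃ (F : Type) (_ : Field F) (_ : Fintype F), Fintype.card F = 4 ∧
        Nonempty (K ≃* Matrix.ProjectiveSpecialLinearGroup (Fin 3) F)) ∨
    Cfsg.IsSuzuki K)
include h hone FT h348

/-- the representative -/
theorem comps_rep : Comps 7 ↥(centralizer ({ev γ X7} : Set G)) := by
  have hfin := h.fin
  have hp : Nat.Prime 7 := by norm_num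
  have : Fact (Nat.Prime 2) := ⟨Nat.prime_two⟩
  obtain ⟨f, F⟩ := Local.exists_epi h
  have hx : orderOf (ev γ X7) = 7 := by
    have := o7 h F
    rwa [Subgroup.orderOf_mk] at this
  set x := ev γ X7 with hxdef
  let H := ↥(centralizer ({x} : Set G))
  -- elements
  have haH : γ 1 ∈ centralizer ({x} : Set G) := mem_centralizer_singleton_iff.2 (comm_gen h (by simp))
  have hxH : x ∈ centralizer ({x} : Set G) := mem_centralizer_singleton_iff.2 rfl
  let s0 : H := ⟨γ 1, haH⟩
  let x0 : H := ⟨x, hxH⟩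
  have hs0 : orderOf s0 = 2 := by
    rw [Subgroup.orderOf_mk]
    exact orderOf_eq_prime (by rw [pow_two]; exact h.aa) h.a1
  have hx0c : x0 ∈ center H := by
    rw [mem_center_iff]
    intro g
    exact Subtype.ext (mem_centralizer_singleton_iff.1 g.2)
  have hTH : T γ ≤ centralizer ({x} : Set G) := fun q hq => mem_centralizer_singleton_iff.2 (T_comm h hq)
  have hconj : ∀ u : H, orderOf u = 2 → ∃ g : H, g * s0 * g⁻¹ = u := by
    rintro ⟨u, hu⟩ hou
    rw [Subgroup.orderOf_mk] at hou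
    obtain ⟨g, h1, h2⟩ := exists_pair h hone hx hou (mem_centralizer_singleton_iff.1 hu) (P := fun z => z = x)
      (fun y hy => by
        obtain ⟨c, hc⟩ := exists_rep_seven h F hy
        exact ⟨c, congrArg Subtype.val hc⟩)
    have hg : g ∈ centralizer ({x} : Set G) := by
      rw [mem_centralizer_singleton_iff]
      exact mul_inv_eq_iff_eq_mul.1 h2
    refine ⟨⟨g⁻¹, _root_.InvMemClass.inv_mem hg⟩, Subtype.ext ?_⟩
    change g⁻¹ * γ 1 * g⁻¹⁻¹ = u
    rw [← h1]
    group
  have hstruct : ∀ y : H, y * s0 = s0 * y → ∃ i : ℕ, ∃ q : H, (q : G) ∈ T γ ∧ y = x0 ^ i * q := by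
    rintro ⟨y, hy⟩ hys
    obtain ⟨i, q, hq, hyq⟩ := struct h F (congrArg Subtype.val hys) (mem_centralizer_singleton_iff.1 hy)
    exact ⟨i, ⟨q, hTH hq⟩, hq, Subtype.ext hyq⟩
  have hTp : IsPGroup 2 ↥(T γ) := by
    have h1 : IsPGroup 2 ↥(Q0 γ) := IsPGroup.of_card (n := 9) (by rw [h.cardQ]; norm_num)
    exact h1.to_le (T_le h)
  have hT4 : ∀ q : H, (q : G) ∈ T γ → ∃ k : ℕ, q ^ 2 ^ k = 1 := by
    intro q hq
    obtain ⟨k, hk⟩ := hTp ⟨q, hq⟩
    have h1 : (q : G) ^ 2 ^ k = 1 := congrArg Subtype.val hk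
    exact ⟨k, Subtype.ext h1⟩
  set R := pPrimeCore 7 H with hRdef
  have hRn : R.Normal := Lib.Cores.pPrimeCore_normal (G := H) 7
  rcases Nat.even_or_odd (Nat.card ↥R) with hR | hR
  · -- all involutions are in `R`
    obtain ⟨r, hr⟩ := exists_prime_orderOf_dvd_card' 2 (even_iff_two_dvd.1 hR)
    have hinv : ∀ u : H, orderOf u = 2 → u ∈ R := by
      intro u hu
      obtain ⟨g, hg⟩ := hconj u hu
      obtain ⟨g', hg'⟩ := hconj (r : H) (by rw [Subgroup.orderOf_coe, hr])
      have h1 : g * g'⁻¹ * r * (g * g'⁻¹)⁻¹ = u := conj_trans hg hg'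
      rw [← h1]
      exact hRn.conj_mem _ r.2 _
    have hTR : ∀ q : H, (q : G) ∈ T γ → q ∈ R := by
      have h1 : T γ ≤ R.map (centralizer ({x} : Set G)).subtype := by
        change Subgroup.closure _ ≤ _
        rw [closure_le]
        intro y hy
        have hyH : y ∈ centralizer ({x} : Set G) := hTH (_root_.Subgroup.subset_closure hy)
        refine ⟨⟨y, hyH⟩, hinv _ ?_, rfl⟩
        rw [Subgroup.orderOf_mk]
        refine orderOf_eq_prime (by rw [pow_two]; exact gen_two h hy) ?_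
        rintro rfl
        -- a generator is not trivial
        have h4 := order_w01 h
        have h5 := w01 h
        rcases hy with h6 | h6 | h6
        · exact h.a1 h6.symm
        · rw [← h6, one_mul] at h4
          have h7 := h.data.cc 1
          have h8 := orderOf_dvd_of_pow_eq_one (show cc γ 1 ^ 2 = 1 by rw [pow_two]; exact h7)
          rw [h4] at h8
          exact absurd h8 (by norm_num)
        · have h6' : cc γ 1 = 1 := h6.symm
          rw [h6', mul_one] at h4
          have h7 := h.data.cc 0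
          have h8 := orderOf_dvd_of_pow_eq_one (show cc γ 0 ^ 2 = 1 by rw [pow_two]; exact h7)
          rw [h4] at h8
          exact absurd h8 (by norm_num)
      intro q hq
      obtain ⟨r, hr, hrq⟩ := h1 hq
      have h2 : r = q := Subtype.ext hrq
      rw [← h2]
      exact hr
    obtain ⟨P, hsP, hPc⟩ := exists_sylow_central hs0 hconj
    have hPR : (P : Subgroup H) ≤ R := by
      intro y hy
      obtain ⟨i, q, hq, hyq⟩ := hstruct y (hPc y hy)
      obtain ⟨k, hk⟩ := P.isPGroup' ⟨y, hy⟩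
      have hk' : y ^ 2 ^ k = 1 := congrArg Subtype.val hk
      obtain ⟨m, hm⟩ := hT4 q hq
      have hcm : Commute (x0 ^ i) q := (mem_center_iff.1 (pow_mem hx0c i) q).symm
      have h1 : (x0 ^ i) ^ 2 ^ (k + m) = 1 := by
        have h2 : y ^ 2 ^ (k + m) = 1 := by rw [pow_add, pow_mul, hk', one_pow]
        have h3 : q ^ 2 ^ (k + m) = 1 := by rw [add_comm, pow_add, pow_mul, hm, one_pow]
        rw [hyq, hcm.mul_pow, h3, mul_one] at h2
        exact h2
      have h2 : (x0 ^ i) ^ 7 = 1 := by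
        have h3 : x0 ^ 7 = 1 := by
          apply Subtype.ext
          change x ^ 7 = 1
          rw [← hx, pow_orderOf_eq_one]
        rw [← pow_mul, mul_comm, pow_mul, h3, one_pow]
      have h3 : x0 ^ i = 1 := by
        have h4 := orderOf_dvd_of_pow_eq_one h1
        have h5 := orderOf_dvd_of_pow_eq_one h2
        have h6 : (2 ^ (k + m)).Coprime 7 := Nat.Coprime.pow_left _ (by norm_num)
        exact orderOf_eq_one_iff.1 (Nat.eq_one_of_dvd_coprimes h6 h4 h5)
      rw [hyq, h3, one_mul]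
      exact hTR q hq
    apply comps_of_quot_solvable
    apply FT
    have h1 : ¬ 2 ∣ (P : Subgroup H).index := P.not_dvd_index
    have h2 : R.index ∣ (P : Subgroup H).index := index_dvd_of_le hPR
    rw [← Subgroup.index, Nat.odd_iff]
    have h3 : ¬ 2 ∣ R.index := fun h4 => h1 (h4.trans h2)
    change R.index % 2 = 1
    omega
  · -- the reduction
    refine RedThree.main2 FT hp (fun s hs => hall' h hone (by norm_num) x hx s hs) ?_ ?_
    · intro s hs hsR
      exfalso
      have h1 : orderOf (⟨s, hsR⟩ : ↥R) ∣ Nat.card ↥R := _root_.orderOf_dvd_natCard _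
      rw [Subgroup.orderOf_mk, hs] at h1
      exact (Nat.not_even_iff_odd.2 hR) (even_iff_two_dvd.2 h1)
    intro W hWn K L _ _ hWodd hZW hRW hKn hKs hKnc hCK hLq hLZ ⟨e⟩ h7K
    have : Finite (H ⧸ W) := inferInstance
    let π := QuotientGroup.mk' W
    have hπx : ∀ i : ℕ, π (x0 ^ i) = 1 := fun i => (QuotientGroup.eq_one_iff _).2 (hZW (pow_mem hx0c i))
    have hW2 : (Nat.card ↥W).Coprime 2 := Nat.coprime_two_right.2 hWodd
    -- involutions of `H / W`
    have key1 : ∀ a : H ⧸ W, orderOf a = 2 → ∃ d : H ⧸ W, d * a * d⁻¹ = π s0 := by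
      intro a ha
      obtain ⟨s, hs, rfl⟩ := LThree.Red.exists_involution_lift W hWodd ha
      obtain ⟨g, hg⟩ := hconj s hs
      refine ⟨π g⁻¹, ?_⟩
      change π g⁻¹ * π s * (π g⁻¹)⁻¹ = π s0
      rw [← map_inv, ← map_mul, ← map_mul, conj_symm hg]
    have key2 : ∀ b : H ⧸ W, b * π s0 = π s0 * b → ∃ q : H, (q : G) ∈ T γ ∧ b = π q := by
      intro b hb
      have h1 := LThree.Red.centralizer_mk Nat.prime_two W hW2 hs0
      have h2 : b ∈ centralizer ({(QuotientGroup.mk' W s0)} : Set (H ⧸ W)) := mem_centralizer_singleton_iff.2 hb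
      rw [h1] at h2
      obtain ⟨y, hy, rfl⟩ := h2
      obtain ⟨i, q, hq, hyq⟩ := hstruct y (mem_centralizer_singleton_iff.1 hy)
      refine ⟨q, hq, ?_⟩
      change π y = π q
      rw [hyq, map_mul, hπx, one_mul]
    let T' : Subgroup (H ⧸ W) := ((T γ).subgroupOf (centralizer ({x} : Set G))).map π
    have hT' : Nat.card ↥T' ≤ 8 := by
      have h1 : Nat.card ↥T' ≤ Nat.card ↥((T γ).subgroupOf (centralizer ({x} : Set G))) :=
        Nat.card_le_card_of_surjective _ (π.subgroupMap_surjective _)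
      have h2 : Nat.card ↥((T γ).subgroupOf (centralizer ({x} : Set G))) = Nat.card ↥(T γ) :=
        Nat.card_congr (subgroupOfEquivOfLe hTH).toEquiv
      rw [h2] at h1
      exact h1.trans (card_T h)
    -- a Sylow 2-subgroup of `K`
    have hna : ∃ a b : ↥K, a * b ≠ b * a := by
      by_contra hcon
      push Not at hcon
      exact hKnc ⟨⟨hcon⟩⟩
    have hC : ∀ t : ↥K, orderOf t = 2 → IsPGroup 2 ↥(centralizer ({t} : Set ↥K)) := by
      rintro t ht ⟨y, hy⟩
      obtain ⟨d, hd⟩ := key1 (t : H ⧸ W) (by rw [Subgroup.orderOf_coe, ht])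
      have hyt : (y : H ⧸ W) * t = t * y := congrArg Subtype.val (mem_centralizer_singleton_iff.1 hy)
      obtain ⟨q, hq, hyq⟩ := key2 (d * y * d⁻¹) (by
        rw [← hd]
        calc d * (y : H ⧸ W) * d⁻¹ * (d * t * d⁻¹) = d * (y * t) * d⁻¹ := by group
          _ = d * t * d⁻¹ * (d * y * d⁻¹) := by rw [hyt]; group)
      obtain ⟨k, hk⟩ := hT4 q hq
      refine ⟨k, Subtype.ext (Subtype.ext ?_)⟩
      change (y : H ⧸ W) ^ 2 ^ k = 1
      have h1 : (d * (y : H ⧸ W) * d⁻¹) ^ 2 ^ k = 1 := by rw [hyq, ← map_pow, hk, map_one]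
      rw [conj_pow] at h1
      exact conj_eq_one_iff.1 h1
    obtain ⟨S⟩ : Nonempty (Sylow 2 ↥K) := inferInstance
    -- the Sylow subgroup embeds in `T'`
    have hSyl : 2 ∣ Nat.card ↥K → ∃ d : H ⧸ W, (((S : Subgroup ↥K).map K.subtype).map (MulAut.conj d).toMonoidHom) ≤ T' := by
      intro h2
      have hS2 : 2 ∣ Nat.card ↥(S : Subgroup ↥K) := S.dvd_card_of_dvd_card h2
      have hnt : Nontrivial ↥(S : Subgroup ↥K) := by
        by_contra hcon
        rw [not_nontrivial_iff_subsingleton] at hcon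
        rw [Nat.card_unique] at hS2
        omega
      have hcn := S.isPGroup'.center_nontrivial
      obtain ⟨z, hz⟩ : ∃ z : ↥(center ↥(S : Subgroup ↥K)), orderOf z = 2 := by
        apply exists_prime_orderOf_dvd_card' 2
        obtain ⟨n, hn⟩ := IsPGroup.iff_card.1 (S.isPGroup'.to_subgroup (center ↥(S : Subgroup ↥K)))
        have h1 : n ≠ 0 := by
          rintro rfl
          rw [pow_zero] at hn
          exact (Finite.one_lt_card (α := ↥(center ↥(S : Subgroup ↥K)))).ne' hn
        rw [hn]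
        exact dvd_pow_self 2 h1
      obtain ⟨d, hd⟩ := key1 ((((z : ↥(S : Subgroup ↥K)) : ↥K) : H ⧸ W)) (by
        rw [Subgroup.orderOf_coe, Subgroup.orderOf_coe, Subgroup.orderOf_coe, hz])
      refine ⟨d, ?_⟩
      rintro _ ⟨_, ⟨y, hy, rfl⟩, rfl⟩
      change d * (y : H ⧸ W) * d⁻¹ ∈ T'
      have hyz : (y : H ⧸ W) * (((z : ↥(S : Subgroup ↥K)) : ↥K) : H ⧸ W) =
          (((z : ↥(S : Subgroup ↥K)) : ↥K) : H ⧸ W) * y :=
        congrArg (fun w : ↥(S : Subgroup ↥K) => ((w : ↥K) : H ⧸ W)) (mem_center_iff.1 z.2 ⟨y, hy⟩)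
      obtain ⟨q, hq, hyq⟩ := key2 (d * y * d⁻¹) (by
        rw [← hd]
        calc d * (y : H ⧸ W) * d⁻¹ * (d * ((z : ↥(S : Subgroup ↥K)) : ↥K) * d⁻¹) =
              d * (y * ((z : ↥(S : Subgroup ↥K)) : ↥K)) * d⁻¹ := by group
          _ = d * ((z : ↥(S : Subgroup ↥K)) : ↥K) * d⁻¹ * (d * y * d⁻¹) := by rw [hyz]; group)
      rw [hyq]
      exact ⟨q, mem_subgroupOf.2 hq, rfl⟩
    have hcardS : ∀ d : H ⧸ W, Nat.card ↥(((S : Subgroup ↥K).map K.subtype).map (MulAut.conj d).toMonoidHom) =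
        Nat.card ↥(S : Subgroup ↥K) := by
      intro d
      rw [card_map_of_injective (MulAut.conj d).injective, card_map_of_injective K.subtype_injective]
    have h16 : ¬ 16 ∣ Nat.card ↥K := by
      intro h16
      have h2 : 2 ∣ Nat.card ↥K := dvd_trans (by norm_num) h16
      obtain ⟨d, hd⟩ := hSyl h2
      have h3 := Subgroup.card_le_of_le hd
      rw [hcardS] at h3
      have h4 : 2 ^ 4 ∣ Nat.card ↥(S : Subgroup ↥K) := S.pow_dvd_card_of_pow_dvd_card (by norm_num only []; exact h16)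
      have h5 := Nat.le_of_dvd Nat.card_pos h4
      omega
    have h8 : 8 ∣ Nat.card ↥K → ∃ g : ↥K, orderOf g = 4 := by
      intro h8
      have h2 : 2 ∣ Nat.card ↥K := dvd_trans (by norm_num) h8
      obtain ⟨d, hd⟩ := hSyl h2
      have h4 : 2 ^ 3 ∣ Nat.card ↥(S : Subgroup ↥K) := S.pow_dvd_card_of_pow_dvd_card (by norm_num only []; exact h8)
      have h5 := Nat.le_of_dvd Nat.card_pos h4
      have h6 := Subgroup.eq_of_le_of_card_ge hd (by rw [hcardS]; omega)
      have hwT : cc γ 0 * cc γ 1 ∈ T γ := mul_mem (_root_.Subgroup.subset_closure (by simp)) (_root_.Subgroup.subset_closure (by simp))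
      let w : H := ⟨cc γ 0 * cc γ 1, hTH hwT⟩
      have hw : π w ∈ T' := ⟨w, mem_subgroupOf.2 hwT, rfl⟩
      rw [← h6] at hw
      obtain ⟨_, ⟨y, hy, rfl⟩, hyw⟩ := hw
      refine ⟨y, ?_⟩
      have h7 : orderOf (π w) = 4 := by
        have hw2 : w * w = s0 := Subtype.ext (w01 h)
        have hs1 : π s0 ≠ 1 := by
          intro h8
          have h9 : s0 ∈ W := (QuotientGroup.eq_one_iff _).1 h8
          have h10 : orderOf (⟨s0, h9⟩ : ↥W) ∣ Nat.card ↥W := _root_.orderOf_dvd_natCard _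
          rw [Subgroup.orderOf_mk, hs0] at h10
          exact (Nat.not_even_iff_odd.2 hWodd) (even_iff_two_dvd.2 h10)
        have hs2 : s0 * s0 = 1 := Subtype.ext h.aa
        refine orderOf_eq_prime_pow (p := 2) (n := 1) (x := π w) ?_ ?_
        · rw [pow_one, pow_two, ← map_mul, hw2]
          exact hs1
        · rw [show 2 ^ (1 + 1) = 2 * 2 by norm_num, pow_mul, pow_two, pow_two, ← map_mul, hw2, ← map_mul, hs2,
            map_one]
      rw [← h7, ← hyw, ← Subgroup.orderOf_coe y]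
      exact (MulEquiv.orderOf_eq (MulAut.conj d) (y : H ⧸ W)).symm
    obtain ⟨E, hE1, hE2, hE7, ⟨e2⟩⟩ := psl_seven h348 hKs hna hC h16 h7K h8
    refine ⟨hLq, hLZ, Or.inl (Or.inl (Or.inl ⟨E, hE1, hE2, charP_of_card (n := 1) hp (by rw [hE7, pow_one]), 2,
      le_rfl, fun _ => by omega, ⟨e.trans e2⟩⟩)), ?_⟩
    rintro (⟨h1, -⟩ | ⟨h1, -⟩) <;> omega

/-- **the elements of order 7** -/
theorem comps_seven (x : G) (hx : orderOf x = 7) : Comps 7 ↥(centralizer ({x} : Set G)) := by
  have := h.fin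
  obtain ⟨f, F⟩ := Local.exists_epi h
  refine comps_of_odd FT ?_
  rintro ⟨⟨s, hsx⟩, hs⟩
  rw [Subgroup.orderOf_mk] at hs
  rw [mem_centralizer_singleton_iff] at hsx
  obtain ⟨g, h1, h2⟩ := exists_pair h hone hx hs hsx (P := fun z => z = ev γ X7) (fun y hy => by
    obtain ⟨c, hc⟩ := exists_rep_seven h F hy
    exact ⟨c, congrArg Subtype.val hc⟩)
  exact (comps_rep h hone FT h348).congr (centConj g h2).symm

end

end Cfsg.Agent.CpAutTh.Seven

end
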