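import Cfsg.Agent.LThree.Red
import Cfsg.Agent.SignalizersComponents.FStarPCore
import Cfsg.Agent.J2.ExtQuot
import Cfsg.Agent.GH.C2Extra
import Cfsg.Agent.CpAutTh.ThreeE
import Cfsg.Agent.CpAutTh.Seven
import Cfsg.Agent.FixBN.ReduceMain_m3
import Cfsg.Agent.Classification.TypeZ.Comp
import Cfsg.Agent.S0822
import Cfsg.Agent.S0280
import Cfsg.Agent.S0243
import Cfsg.Agent.S1059
import Cfsg.Agent.S1619
import Cfsg.Agent.S1625
import Cfsg.Agent.MTwelveType.SylowModel
import Cfsg.Prelude.Def_ClassificationK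
import Cfsg.Prelude.Def_EvenType
import Cfsg.Agent.KFacts.Th.Main
import Cfsg.Agent.MonsterX.ThOneClass
import Cfsg.Agent.CpAut.Base
import Cfsg.Agent.S0204
import Cfsg.Agent.S0205
import Cfsg.Agent.S0348
import Cfsg.Agent.S1759
import Cfsg.Agent.OddHalf.D6.QThree.PumpOrd.ON
import Cfsg.Agent.FastGrp
import Cfsg.Agent.Prune
set_option linter.all false
prune_inst 0x7f00000000000000000000000000000000000000000000000000000000000000000000000000000000000000000000000000000000000000000000000000000000000000000000000000000000000000003fffffffffffffffffffffffffffbeffbdffffffff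
open scoped Cfsg.Agent.FastGrp

-- merged: Cfsg.Agent.CpAutTh.FStar
section

/-!
# `F*` of the centralizer of an involution in a quotient by a normal subgroup of odd order (helper96)

`fstar_quot` : `Y = C_H(s)`, `E ⊴ Y` a 2-group, `W ⊴ H` of odd order, `π : H → H / W`; if the elements of `Y`
centralizing `E` and the normal 2-subgroups of `C(π s) = π Y` are contained in `π E`, then `F*(C(π s)) ≃ E`.
-/

set_option autoImplicit false

namespace Cfsg.Agent.CpAutTh.FStar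

open Subgroup Cfsg Cfsg.Agent.SignalizersComponents

universe u

/-- a 2-group meets a group of odd order trivially -/
theorem eq_one_of_mem {H : Type u} [Group H] [Finite H] {W E : Subgroup H} (hW : Odd (Nat.card ↥W))
    (hE : IsPGroup 2 ↥E) {x : H} (hx : x ∈ W) (hxE : x ∈ E) : x = 1 := by
  obtain ⟨k, hk⟩ := hE ⟨x, hxE⟩
  have hk' : x ^ 2 ^ k = 1 := congrArg Subtype.val hk
  have h1 : orderOf (⟨x, hx⟩ : ↥W) ∣ Nat.card ↥W := _root_.orderOf_dvd_natCard _
  rw [Subgroup.orderOf_mk] at h1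
  have h2 : orderOf x ∣ 2 ^ k := orderOf_dvd_of_pow_eq_one hk'
  have h3 : (Nat.card ↥W).Coprime (2 ^ k) := Nat.Coprime.pow_right k (Nat.coprime_two_right.2 hW)
  exact orderOf_eq_one_iff.1 (Nat.eq_one_of_dvd_coprimes h3 h1 h2)

/-- elements of `W` normalizing `E` centralize `E` -/
theorem comm_of_mem {H : Type u} [Group H] [Finite H] {W E : Subgroup H} [W.Normal] (hW : Odd (Nat.card ↥W))
    (hE : IsPGroup 2 ↥E) {y : H} (hy : y ∈ W) (hyE : ∀ e ∈ E, y * e * y⁻¹ ∈ E) : ∀ e ∈ E, y * e = e * y := by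
  intro e he
  have h1 : y * e * y⁻¹ * e⁻¹ ∈ W := by
    have h2 : y * (e * y⁻¹ * e⁻¹) ∈ W :=
      mul_mem hy ((inferInstance : W.Normal).conj_mem _ (inv_mem hy) e)
    have e1 : y * e * y⁻¹ * e⁻¹ = y * (e * y⁻¹ * e⁻¹) := by group
    rwa [e1]
  have h2 := eq_one_of_mem hW hE h1 (mul_mem (hyE e he) (inv_mem he))
  have h3 := mul_inv_eq_one.1 h2
  exact mul_inv_eq_iff_eq_mul.1 h3

theorem fstar_quot {H : Type u} [Group H] [Finite H] {s : H} (hs : orderOf s = 2) (W : Subgroup H) [W.Normal]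
    (hW : Odd (Nat.card ↥W)) (E : Subgroup H) (hE : IsPGroup 2 ↥E) (hEs : ∀ e ∈ E, e * s = s * e)
    (hn : ∀ y : H, y * s = s * y → ∀ e ∈ E, y * e * y⁻¹ ∈ E)
    (h1 : ∀ y : H, y * s = s * y → (∀ e ∈ E, y * e = e * y) → QuotientGroup.mk' W y ∈ E.map (QuotientGroup.mk' W))
    (h2 : ∀ V : Subgroup (H ⧸ W), IsPGroup 2 ↥V → V ≤ centralizer ({(QuotientGroup.mk' W s)} : Set (H ⧸ W)) →
      (∀ g ∈ centralizer ({(QuotientGroup.mk' W s)} : Set (H ⧸ W)), ∀ v ∈ V, g * v * g⁻¹ ∈ V) →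
      V ≤ E.map (QuotientGroup.mk' W)) :
    Nonempty (↥E ≃* ↥(generalizedFittingSubgroup
      ↥(centralizer ({(QuotientGroup.mk' W s)} : Set (H ⧸ W))))) := by
  have h22 : Fact (Nat.Prime 2) := ⟨Nat.prime_two⟩
  set π := QuotientGroup.mk' W with hπ
  have hcen := LThree.Red.centralizer_mk Nat.prime_two W (Nat.coprime_two_right.2 hW) hs
  set CZ := centralizer ({π s} : Set (H ⧸ W)) with hCZ
  have hmem : ∀ c ∈ CZ, ∃ y : H, y * s = s * y ∧ π y = c := by
    intro c hc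
    rw [hcen] at hc
    obtain ⟨y, hy, rfl⟩ := hc
    exact ⟨y, mem_centralizer_singleton_iff.1 hy, rfl⟩
  have hEC : E.map π ≤ CZ := by
    rintro _ ⟨e, he, rfl⟩
    rw [hCZ, mem_centralizer_singleton_iff, ← map_mul, hEs e he, map_mul]
  have hEp : IsPGroup 2 ↥(E.map π) := hE.map π
  have hEn : ∀ c ∈ CZ, ∀ v ∈ E.map π, c * v * c⁻¹ ∈ E.map π := by
    rintro c hc _ ⟨e, he, rfl⟩
    obtain ⟨y, hy, rfl⟩ := hmem c hc
    exact ⟨y * e * y⁻¹, hn y hy e he, by rw [map_mul, map_mul, map_inv]⟩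
  let Eb : Subgroup ↥CZ := (E.map π).subgroupOf CZ
  have hEbn : Eb.Normal := ⟨fun v hv g => mem_subgroupOf.2 (hEn g g.2 v (mem_subgroupOf.1 hv))⟩
  have hEbp : IsPGroup 2 ↥Eb := hEp.of_equiv (subgroupOfEquivOfLe hEC).symm
  have hcent : centralizer (Eb : Set ↥CZ) ≤ Eb := by
    rintro ⟨c, hc⟩ hcE
    rw [mem_subgroupOf]
    obtain ⟨y, hy, rfl⟩ := hmem c hc
    apply h1 y hy
    intro e he
    have h3 := congrArg Subtype.val (mem_centralizer_iff.1 hcE ⟨π e, hEC ⟨e, he, rfl⟩⟩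
      (mem_subgroupOf.2 ⟨e, he, rfl⟩))
    change π e * π y = π y * π e at h3
    have h4 : y * e * y⁻¹ * e⁻¹ ∈ W := by
      rw [← QuotientGroup.eq_one_iff]
      change π (y * e * y⁻¹ * e⁻¹) = 1
      rw [map_mul, map_mul, map_mul, map_inv, map_inv, ← h3]
      group
    have h5 := eq_one_of_mem hW hE h4 (mul_mem (hn y hy e he) (inv_mem he))
    exact mul_inv_eq_iff_eq_mul.1 (mul_inv_eq_one.1 h5)
  have h3 := FStarPCore.generalizedFitting_eq_pCore_of_centralizer_le hEbn hEbp hcent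
  have h4 : pCore 2 ↥CZ = Eb := by
    apply le_antisymm
    · have hVn : (pCore 2 ↥CZ).Normal := Lib.Cores.pCore_normal 2
      have h5 := h2 ((pCore 2 ↥CZ).map CZ.subtype) ((Lib.Cores.pCore_isPGroup 2).map _) (map_subtype_le _) (by
        rintro g hg _ ⟨v, hv, rfl⟩
        exact ⟨(⟨g, hg⟩ * v * ⟨g, hg⟩⁻¹ :), hVn.conj_mem v hv ⟨g, hg⟩, rfl⟩)
      intro v hv
      rw [mem_subgroupOf]
      exact h5 ⟨v, hv, rfl⟩
    · exact Lib.Cores.le_pCore hEbn hEbp
  rw [h3, h4]
  -- `E ≃ π E`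
  have hinj : Function.Injective (π.subgroupMap E) := by
    rw [injective_iff_map_eq_one]
    intro e he
    have h5 : π (e : H) = 1 := congrArg Subtype.val he
    have h6 : (e : H) ∈ W := (QuotientGroup.eq_one_iff _).1 h5
    exact Subtype.ext (eq_one_of_mem hW hE h6 e.2)
  exact ⟨(MulEquiv.ofBijective _ ⟨hinj, π.subgroupMap_surjective E⟩).trans (subgroupOfEquivOfLe hEC).symm⟩

/-- the conditions of S1759 -/
theorem conditions {X P : Type u} [Group X] [Finite X] [Group P] (e : X ≃* P) (hX : IsExtraspecial 2 X)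
    (hc : Nat.card X = 32) : IsOfSymplecticType P ∧ IsExtraspecial 2 P ∧ Nat.card P = 32 := by
  have hfin : Finite P := Finite.of_equiv X e.toEquiv
  have h1 := J2.ExtQuot.isExtraspecial_of_equiv e hX
  have h2 : Nat.card P = 32 := by rw [← Nat.card_congr e.toEquiv, hc]
  exact ⟨GH.C2Extra.isOfSymplecticType h1 (by rw [h2]; norm_num), h1, h2⟩

end Cfsg.Agent.CpAutTh.FStar

end

-- merged: Cfsg.Agent.CpAutTh.Three
section

/-!
# The Thompson group: the elements of order 3 of type `(3, 3)` (helper96)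

`x = ev γ X33`, `H = C_G(x)`; `Setup` : all involutions of `H` are conjugate to `a`.
-/

set_option autoImplicit false
set_option maxRecDepth 100000
set_option linter.unusedSectionVars false

namespace Cfsg.Agent.CpAutTh.Three

open Subgroup Cfsg
open Cfsg.Agent.Th.Base Cfsg.Agent.Th.Word Cfsg.Agent.Th.RelWords Cfsg.Agent.Th.PermTab
  Cfsg.Agent.Th.KOracle Cfsg.Agent.Th.KPerm Cfsg.Agent.Th.NineAct Cfsg.Agent.Th.CStruct
  Cfsg.Agent.Th.COracleDef Cfsg.Agent.Th.COracleSound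
open Cfsg.Agent.KFacts.Th.Mask Cfsg.Agent.KFacts.Th.Struct
open Cfsg.Agent.CpAutTh.Data Cfsg.Agent.CpAutTh.Alt Cfsg.Agent.CpAutTh.RankOne Cfsg.Agent.CpAutTh.Local
  Cfsg.Agent.CpAutTh.Mid Cfsg.Agent.CpAutTh.SevenAux Cfsg.Agent.CpAutTh.Seven Cfsg.Agent.CpAutTh.ThreePerm
  Cfsg.Agent.CpAutTh.ThreeE
open Cfsg.Agent.LThree (Comps)
open Cfsg.Agent.SignalizersComponents

universe u

/-! ### Permutations -/

/-- powers of `cg` and `sg` -/
theorem cg_sg : ∀ (m l : Fin 3), cg ^ (m : ℕ) = sg ^ (l : ℕ) → m = 0 := by decide +kernel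
theorem form_sg : ∀ (i k j l : Fin 3), sg ^ (i : ℕ) * cg ^ (k : ℕ) * bg ^ (j : ℕ) = sg ^ (l : ℕ) → k = 0 ∧ j = 0 := by
  decide +kernel
theorem form_three : ∀ (i k j : Fin 3), (sg ^ (i : ℕ) * cg ^ (k : ℕ) * bg ^ (j : ℕ)) ^ 3 = 1 := by decide +kernel
theorem comm_form : ∀ (i k j : Fin 3), (sg ^ (i : ℕ) * cg ^ (k : ℕ) * ug * bg ^ (j : ℕ)) * cg *
    (sg ^ (i : ℕ) * cg ^ (k : ℕ) * ug * bg ^ (j : ℕ))⁻¹ * cg⁻¹ = cg := by decide +kernel

theorem pow_mod_three {π : Equiv.Perm (Fin 9)} (h : π ^ 3 = 1) (n : ℕ) : ∃ m : Fin 3, π ^ n = π ^ (m : ℕ) := by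
  refine ⟨⟨n % 3, Nat.mod_lt _ (by norm_num)⟩, ?_⟩
  conv_lhs => rw [← Nat.div_add_mod n 3, pow_add, pow_mul, h, one_pow, one_mul]

/-- `π ^ (2 ^ n)` a power of `sg` -/
theorem pow_two_pow {π ρ : Equiv.Perm (Fin 9)} (h : π ^ 3 = 1) (hρ : ρ ^ 3 = 1) {n l : ℕ} (h1 : π ^ 2 ^ n = ρ ^ l) :
    ∃ m : Fin 3, π = ρ ^ (m : ℕ) := by
  have h2 : ∃ c, 2 ^ n * c % 3 = 1 := by
    have h3 : ∀ n : ℕ, 2 ^ n % 3 = 1 ∨ 2 ^ n % 3 = 2 := by
      intro n
      induction n with
      | zero => left; rfl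
      | succ n ih => rw [pow_succ]; omega
    rcases h3 n with h3 | h3
    · exact ⟨1, by rw [mul_one]; exact h3⟩
    · exact ⟨2, by rw [Nat.mul_mod, h3]⟩
  obtain ⟨c, hc⟩ := h2
  have h3 : π = ρ ^ (l * c) := by
    rw [pow_mul, ← h1, ← pow_mul]
    have h4 : 2 ^ n * c = 3 * (2 ^ n * c / 3) + 1 := by omega
    rw [h4, pow_succ, pow_mul, h, one_pow, one_mul]
  obtain ⟨m, hm⟩ := pow_mod_three hρ (l * c)
  exact ⟨m, by rw [← hm]; exact h3⟩

section

variable {G : Type u} [Group G] {γ : ℕ → G}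

/-- the centralizer of `x` -/
abbrev HH (γ : ℕ → G) : Type u := ↥(centralizer ({ev γ X33} : Set G))

variable (h : Ctx γ)
include h

theorem a_mem_H : γ 1 ∈ centralizer ({ev γ X33} : Set G) :=
  mem_centralizer_singleton_iff.2 (h.mem_C.1 (ev_mem_sub c33)).symm

/-- the involution -/
def s0 : HH γ := ⟨γ 1, a_mem_H h⟩

omit h in
/-- the central element -/
def x0 : HH γ := ⟨ev γ X33, mem_centralizer_singleton_iff.2 rfl⟩

omit h in
theorem x0_center : (x0 : HH γ) ∈ center (HH γ) := by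
  rw [mem_center_iff]
  intro g
  exact Subtype.ext (mem_centralizer_singleton_iff.1 g.2)

theorem order_s0 : orderOf (s0 h) = 2 := by
  have : Fact (Nat.Prime 2) := ⟨Nat.prime_two⟩
  unfold s0
  rw [Subgroup.orderOf_mk]
  exact orderOf_eq_prime (by rw [pow_two]; exact h.aa) h.a1

omit h in
/-- `E` as a subgroup of `H` -/
def EH (γ : ℕ → G) : Subgroup (HH γ) := (E γ).subgroupOf (centralizer ({ev γ X33} : Set G))

omit h in
theorem E_le_H : E γ ≤ centralizer ({ev γ X33} : Set G) := inf_le_right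

omit h in
theorem mem_EH {y : HH γ} : y ∈ EH γ ↔ (y : G) ∈ Q0 γ := by
  unfold EH
  rw [mem_subgroupOf]
  exact ⟨fun hy => hy.1, fun hy => ⟨hy, y.2⟩⟩

omit h in
def eEH : ↥(EH γ) ≃* ↥(E γ) := subgroupOfEquivOfLe E_le_H

theorem card_EH : Nat.card ↥(EH γ) = 32 := by
  rw [Nat.card_congr (eEH (γ := γ)).toEquiv, card_E h]

theorem EH_two : IsPGroup 2 ↥(EH γ) := IsPGroup.of_card (n := 5) (by rw [card_EH h]; norm_num)

theorem EH_extra : IsExtraspecial 2 ↥(EH γ) := by
  have hfin := h.fin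
  exact J2.ExtQuot.isExtraspecial_of_equiv (eEH (γ := γ)).symm (extra h)

/-- membership in the centralizer of `s0` -/
theorem comm_a {y : HH γ} (hy : y * s0 h = s0 h * y) : (y : G) * γ 1 = γ 1 * y := congrArg Subtype.val hy

omit h in
theorem comm_x (y : HH γ) : (y : G) * ev γ X33 = ev γ X33 * y := mem_centralizer_singleton_iff.1 y.2

theorem EH_norm {y : HH γ} (hy : y * s0 h = s0 h * y) {e : HH γ} (he : e ∈ EH γ) : y * e * y⁻¹ ∈ EH γ := by
  rw [mem_EH] at he ⊢
  have h1 := h.Q_conj (_root_.InvMemClass.inv_mem (h.mem_C.2 (comm_a h hy))) he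
  rw [inv_inv] at h1
  exact h1

theorem EH_s0 {e : HH γ} (he : e ∈ EH γ) : e * s0 h = s0 h * e :=
  Subtype.ext (h.Q_comm (mem_EH.1 he)).symm

variable {f : sub γ isC →* alternatingGroup (Fin 9)} (F : Epi γ f)
include F

/-- elements of `C_H(s0)` centralizing `E` -/
theorem cent_EH {y : HH γ} (hy : y * s0 h = s0 h * y) (hE : ∀ e ∈ EH γ, y * e = e * y) :
    ∃ i : ℕ, y = x0 ^ i ∨ y = x0 ^ i * s0 h := by
  obtain ⟨i, h1 | h1⟩ := cent_E h F (comm_a h hy) (comm_x y) (fun q hq => by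
    have := hE ⟨q, E_le_H hq⟩ (mem_EH.2 hq.1)
    exact congrArg Subtype.val this)
  · exact ⟨i, Or.inl (Subtype.ext h1)⟩
  · exact ⟨i, Or.inr (Subtype.ext h1)⟩

/-- the image in `A9` of elements of `W ∩ C_H(s0)`, `W` normal of odd order -/
theorem f_of_W (W : Subgroup (HH γ)) [W.Normal] (hW : Odd (Nat.card ↥W)) {y : HH γ} (hy : y * s0 h = s0 h * y)
    (hyW : y ∈ W) :
    ∃ i : ℕ, ((f ⟨(y : G), h.mem_C.2 (comm_a h hy)⟩ : alternatingGroup (Fin 9)) : Equiv.Perm (Fin 9)) = sg ^ i := by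
  have hfin := h.fin
  have h1 := FStar.comm_of_mem hW (EH_two h) hyW (fun e he => EH_norm h hy he)
  have hfa : f ⟨γ 1, h.Q_le h.a_mem⟩ = 1 := MonoidHom.mem_ker.1 ((mem_ker F).2 h.a_mem)
  have hfx : ((f ⟨ev γ X33, ev_mem_sub c33⟩ : alternatingGroup (Fin 9)) : Equiv.Perm (Fin 9)) = sg := F.word X33 c33
  obtain ⟨i, h2 | h2⟩ := cent_EH h F hy h1
  · refine ⟨i, ?_⟩
    have h3 : (⟨(y : G), h.mem_C.2 (comm_a h hy)⟩ : sub γ isC) = ⟨ev γ X33, ev_mem_sub c33⟩ ^ i := by
      apply Subtype.ext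
      change (y : G) = ev γ X33 ^ i
      rw [h2]
      rfl
    rw [h3, map_pow, Subgroup.coe_pow, hfx]
  · refine ⟨i, ?_⟩
    have h3 : (⟨(y : G), h.mem_C.2 (comm_a h hy)⟩ : sub γ isC) =
        ⟨ev γ X33, ev_mem_sub c33⟩ ^ i * ⟨γ 1, h.Q_le h.a_mem⟩ := by
      apply Subtype.ext
      change (y : G) = ev γ X33 ^ i * γ 1
      rw [h2]
      rfl
    rw [h3, map_mul, hfa, mul_one, map_pow, Subgroup.coe_pow, hfx]

/-- a lift of the 3-cycle `cg` -/
theorem exists_lift_c : ∃ c : HH γ, ∃ hc : c * s0 h = s0 h * c,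
    ((f ⟨(c : G), h.mem_C.2 (comm_a h hc)⟩ : alternatingGroup (Fin 9)) : Equiv.Perm (Fin 9)) = cg := by
  have hfin := h.fin
  let xe : sub γ isC := ⟨ev γ X33, ev_mem_sub c33⟩
  let ce : sub γ isC := ⟨ev γ Wc, ev_mem_sub cc_c⟩
  have hfx : ((f xe : alternatingGroup (Fin 9)) : Equiv.Perm (Fin 9)) = sg := F.word X33 c33
  have hfc : ((f ce : alternatingGroup (Fin 9)) : Equiv.Perm (Fin 9)) = cg := F.word Wc cc_c
  have h1 : f ce * f xe = f xe * f ce := by
    apply Subtype.ext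
    rw [Subgroup.coe_mul, Subgroup.coe_mul, hfx, hfc]
    exact comm_sg.1.symm
  obtain ⟨q, hq, hqc⟩ := exists_comm Nat.prime_two Nat.prime_three (by norm_num) f (ker_two h F) (o33 h F) h1
  let c : sub γ isC := q * ce
  have hcx : (c : G) * ev γ X33 = ev γ X33 * c := congrArg Subtype.val hqc
  refine ⟨⟨(c : G), mem_centralizer_singleton_iff.2 hcx⟩, Subtype.ext (h.mem_C.1 c.2), ?_⟩
  have h2 : f c = f ce := by
    change f (q * ce) = f ce
    rw [map_mul, MonoidHom.mem_ker.1 hq, one_mul]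
  change ((f c : alternatingGroup (Fin 9)) : Equiv.Perm (Fin 9)) = cg
  rw [h2, hfc]

/-- normal 2-subgroups of the centralizer of the involution in the quotient -/
theorem two_core (W : Subgroup (HH γ)) [W.Normal] (hW : Odd (Nat.card ↥W)) (hZW : center (HH γ) ≤ W)
    (V : Subgroup (HH γ ⧸ W)) (hV : IsPGroup 2 ↥V)
    (hVC : V ≤ centralizer ({(QuotientGroup.mk' W (s0 h))} : Set (HH γ ⧸ W)))
    (hVn : ∀ g ∈ centralizer ({(QuotientGroup.mk' W (s0 h))} : Set (HH γ ⧸ W)), ∀ v ∈ V, g * v * g⁻¹ ∈ V) :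
    V ≤ (EH γ).map (QuotientGroup.mk' W) := by
  have hfin := h.fin
  have hcen := LThree.Red.centralizer_mk Nat.prime_two W (Nat.coprime_two_right.2 hW) (order_s0 h)
  intro v hv
  have h1 := hVC hv
  rw [hcen] at h1
  obtain ⟨y, hy, rfl⟩ := h1
  have hys : y * s0 h = s0 h * y := mem_centralizer_singleton_iff.1 hy
  obtain ⟨i, k, e, j, q, hq, hyq, hfy⟩ := exists_form_C h F (comm_a h hys) (comm_x y)
  have he2 : ∀ e : Fin 2, e = 0 ∨ e = 1 := by decide
  rcases he2 e with rfl | rfl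
  · -- `f y` has order dividing 3
    obtain ⟨n, hn⟩ := hV ⟨_, hv⟩
    have hn' : QuotientGroup.mk' W y ^ 2 ^ n = 1 := congrArg Subtype.val hn
    rw [← map_pow] at hn'
    have hyW : y ^ 2 ^ n ∈ W := (QuotientGroup.eq_one_iff _).1 hn'
    have hys' : y ^ 2 ^ n * s0 h = s0 h * y ^ 2 ^ n := (show Commute y (s0 h) from hys).pow_left _
    obtain ⟨l, hl⟩ := f_of_W h F W hW hys' hyW
    have h2 : (⟨((y ^ 2 ^ n : HH γ) : G), h.mem_C.2 (comm_a h hys')⟩ : sub γ isC) =
        ⟨(y : G), h.mem_C.2 (comm_a h hys)⟩ ^ 2 ^ n := rfl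
    have hfy' : ((f ⟨(y : G), h.mem_C.2 (comm_a h hys)⟩ : alternatingGroup (Fin 9)) : Equiv.Perm (Fin 9)) =
        sg ^ (i : ℕ) * cg ^ (k : ℕ) * bg ^ (j : ℕ) := by
      rw [hfy]
      simp
    rw [h2, map_pow, Subgroup.coe_pow, hfy'] at hl
    obtain ⟨m, hm⟩ := pow_two_pow (form_three i k j) orders.1 hl
    obtain ⟨rfl, rfl⟩ := form_sg i k j m hm
    have hy2 : (y : G) = ev γ X33 ^ (i : ℕ) * q := by
      rw [hyq]
      simp
    let q' : HH γ := (x0 ^ (i : ℕ))⁻¹ * y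
    have hq' : (q' : G) = q := by
      change (ev γ X33 ^ (i : ℕ))⁻¹ * y = q
      rw [hy2, inv_mul_cancel_left]
    refine ⟨q', mem_EH.2 (by rw [hq']; exact hq), ?_⟩
    have h3 : QuotientGroup.mk' W (x0 ^ (i : ℕ) : HH γ) = 1 := (QuotientGroup.eq_one_iff _).2 (hZW (pow_mem x0_center _))
    change QuotientGroup.mk' W ((x0 ^ (i : ℕ))⁻¹ * y) = _
    rw [map_mul, map_inv, h3, inv_one, one_mul]
  · -- the commutator with the 3-cycle
    exfalso
    obtain ⟨c, hc, hfc⟩ := exists_lift_c h F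
    let w : HH γ := y * c * y⁻¹ * c⁻¹
    have hys1 : Commute y (s0 h) := hys
    have hc1 : Commute c (s0 h) := hc
    have hw1 : Commute w (s0 h) := ((hys1.mul_left hc1).mul_left hys1.inv_left).mul_left hc1.inv_left
    have hwV : QuotientGroup.mk' W w ∈ V := by
      have h2 := hVn (QuotientGroup.mk' W c) (by
        rw [hcen]
        exact ⟨c, mem_centralizer_singleton_iff.2 hc, rfl⟩) _ (_root_.InvMemClass.inv_mem hv)
      have h3 := mul_mem hv h2
      have h4 : QuotientGroup.mk' W w = QuotientGroup.mk' W y *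
          (QuotientGroup.mk' W c * (QuotientGroup.mk' W y)⁻¹ * (QuotientGroup.mk' W c)⁻¹) := by
        change QuotientGroup.mk' W (y * c * y⁻¹ * c⁻¹) = _
        rw [map_mul, map_mul, map_mul, map_inv, map_inv]
        group
      rw [h4]
      exact h3
    obtain ⟨n, hn⟩ := hV ⟨_, hwV⟩
    have hn' : QuotientGroup.mk' W w ^ 2 ^ n = 1 := congrArg Subtype.val hn
    rw [← map_pow] at hn'
    have hwW : w ^ 2 ^ n ∈ W := (QuotientGroup.eq_one_iff _).1 hn'
    have hws : w * s0 h = s0 h * w := hw1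
    have hws' : w ^ 2 ^ n * s0 h = s0 h * w ^ 2 ^ n := hw1.pow_left _
    obtain ⟨l, hl⟩ := f_of_W h F W hW hws' hwW
    have h2 : (⟨((w ^ 2 ^ n : HH γ) : G), h.mem_C.2 (comm_a h hws')⟩ : sub γ isC) =
        ⟨(w : G), h.mem_C.2 (comm_a h hws)⟩ ^ 2 ^ n := rfl
    have h3 : (⟨(w : G), h.mem_C.2 (comm_a h hws)⟩ : sub γ isC) =
        ⟨(y : G), h.mem_C.2 (comm_a h hys)⟩ * ⟨(c : G), h.mem_C.2 (comm_a h hc)⟩ *
          ⟨(y : G), h.mem_C.2 (comm_a h hys)⟩⁻¹ * ⟨(c : G), h.mem_C.2 (comm_a h hc)⟩⁻¹ := rfl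
    have hfy' : ((f ⟨(y : G), h.mem_C.2 (comm_a h hys)⟩ : alternatingGroup (Fin 9)) : Equiv.Perm (Fin 9)) =
        sg ^ (i : ℕ) * cg ^ (k : ℕ) * ug * bg ^ (j : ℕ) := by
      rw [hfy]
      simp
    have hfw : ((f ⟨(w : G), h.mem_C.2 (comm_a h hws)⟩ : alternatingGroup (Fin 9)) : Equiv.Perm (Fin 9)) = cg := by
      rw [h3, map_mul, map_mul, map_mul, map_inv, map_inv]
      simp only [Subgroup.coe_mul, Subgroup.coe_inv]
      rw [hfy', hfc]
      exact comm_form i k j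
    rw [h2, map_pow, Subgroup.coe_pow, hfw] at hl
    obtain ⟨m, hm⟩ := pow_two_pow orders.2.1 orders.1 hl
    have h5 : cg ^ ((1 : Fin 3) : ℕ) = sg ^ (m : ℕ) := by
      rw [← hm]
      simp
    exact absurd (cg_sg 1 m h5) (by decide)

/-- **`F*` of the centralizer of the involution in `H / W`** -/
theorem fstar (W : Subgroup (HH γ)) [W.Normal] (hW : Odd (Nat.card ↥W)) (hZW : center (HH γ) ≤ W) :
    IsOfSymplecticType ↥(generalizedFittingSubgroup
      ↥(centralizer ({(QuotientGroup.mk' W (s0 h))} : Set (HH γ ⧸ W)))) ∧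
    IsExtraspecial 2 ↥(generalizedFittingSubgroup
      ↥(centralizer ({(QuotientGroup.mk' W (s0 h))} : Set (HH γ ⧸ W)))) ∧
    Nat.card ↥(generalizedFittingSubgroup
      ↥(centralizer ({(QuotientGroup.mk' W (s0 h))} : Set (HH γ ⧸ W)))) = 32 := by
  have hfin := h.fin
  obtain ⟨e⟩ := FStar.fstar_quot (order_s0 h) W hW (EH γ) (EH_two h) (fun e he => EH_s0 h he)
    (fun y hy e he => EH_norm h hy he)
    (fun y hy hE => by
      obtain ⟨i, h1 | h1⟩ := cent_EH h F hy hE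
      · refine ⟨1, one_mem _, ?_⟩
        rw [map_one, h1]
        exact ((QuotientGroup.eq_one_iff _).2 (hZW (pow_mem x0_center _))).symm
      · refine ⟨s0 h, mem_EH.2 h.a_mem, ?_⟩
        have h2 : QuotientGroup.mk' W (x0 ^ i : HH γ) = 1 := (QuotientGroup.eq_one_iff _).2 (hZW (pow_mem x0_center _))
        rw [h1, map_mul, h2, one_mul])
    (fun V hV hVC hVn => two_core h F W hW hZW V hV hVC hVn)
  exact FStar.conditions e (EH_extra h) (card_EH h)

end

end Cfsg.Agent.CpAutTh.Three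

end

-- merged: Cfsg.Agent.CpAutTh.ThreeCard
section

/-!
# The Thompson group, type `(3, 3)`: orders and the case `O_{3'}(H)` even (helper96)
-/

set_option autoImplicit false
set_option maxRecDepth 100000
set_option linter.unusedSectionVars false

namespace Cfsg.Agent.CpAutTh.ThreeCard

open Subgroup Cfsg
open Cfsg.Agent.Th.Base Cfsg.Agent.Th.Word Cfsg.Agent.Th.RelWords Cfsg.Agent.Th.PermTab
  Cfsg.Agent.Th.KOracle Cfsg.Agent.Th.KPerm Cfsg.Agent.Th.NineAct Cfsg.Agent.Th.CStruct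
open Cfsg.Agent.KFacts.Th.Mask Cfsg.Agent.KFacts.Th.Struct
open Cfsg.Agent.CpAutTh.Data Cfsg.Agent.CpAutTh.RankOne Cfsg.Agent.CpAutTh.Local
  Cfsg.Agent.CpAutTh.Mid Cfsg.Agent.CpAutTh.SevenAux Cfsg.Agent.CpAutTh.Seven Cfsg.Agent.CpAutTh.ThreePerm
  Cfsg.Agent.CpAutTh.ThreeE Cfsg.Agent.CpAutTh.Three
open Cfsg.Agent.LThree (Comps)

universe u

section

variable {G : Type u} [Group G] {γ : ℕ → G} (h : Ctx γ)
include h

/-- `|C_H(s0)| = 1728` -/
theorem card_Y : Nat.card ↥(centralizer ({s0 h} : Set (HH γ))) = 1728 := by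
  have hfin := h.fin
  obtain ⟨f, F⟩ := Local.exists_epi h
  let xe : sub γ isC := ⟨ev γ X33, ev_mem_sub c33⟩
  have hfx : ((f xe : alternatingGroup (Fin 9)) : Equiv.Perm (Fin 9)) = sg := F.word X33 c33
  let ι : ↥(centralizer ({s0 h} : Set (HH γ))) →* sub γ isC :=
    { toFun := fun y => ⟨((y : HH γ) : G), h.mem_C.2 (comm_a h (mem_centralizer_singleton_iff.1 y.2))⟩
      map_one' := rfl
      map_mul' := fun _ _ => rfl }
  let φ : ↥(centralizer ({s0 h} : Set (HH γ))) →* ↥(centralizer ({f xe} : Set (alternatingGroup (Fin 9)))) :=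
    { toFun := fun y => ⟨f (ι y), by
        have h1 : ι y * xe = xe * ι y := Subtype.ext (comm_x (y : HH γ))
        rw [mem_centralizer_singleton_iff, ← map_mul, h1, map_mul]⟩
      map_one' := by
        apply Subtype.ext
        change f (ι 1) = 1
        rw [map_one, map_one]
      map_mul' := fun a b => by
        apply Subtype.ext
        change f (ι (a * b)) = f (ι a) * f (ι b)
        rw [map_mul, map_mul] }
  have hφ : Function.Surjective φ := by
    rintro ⟨a, ha⟩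
    obtain ⟨g, rfl⟩ := F.surj a
    obtain ⟨q, hq, hqg⟩ := exists_comm Nat.prime_two Nat.prime_three (by norm_num) f (ker_two h F) (o33 h F)
      (mem_centralizer_singleton_iff.1 ha)
    have h1 : ((q * g : sub γ isC) : G) * ev γ X33 = ev γ X33 * (q * g : sub γ isC) := congrArg Subtype.val hqg
    let y : HH γ := ⟨(q * g : sub γ isC), mem_centralizer_singleton_iff.2 h1⟩
    have hy : y * s0 h = s0 h * y := Subtype.ext (h.mem_C.1 (q * g).2)
    refine ⟨⟨y, mem_centralizer_singleton_iff.2 hy⟩, Subtype.ext ?_⟩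
    change f (q * g) = f g
    rw [map_mul, MonoidHom.mem_ker.1 hq, one_mul]
  have hker : Nat.card ↥φ.ker = 32 := by
    rw [← card_EH h]
    refine Nat.card_congr
      { toFun := fun y => ⟨((y : ↥(centralizer ({s0 h} : Set (HH γ)))) : HH γ), ?_⟩
        invFun := fun e => ⟨⟨(e : HH γ), mem_centralizer_singleton_iff.2 (EH_s0 h e.2)⟩, ?_⟩
        left_inv := fun _ => rfl
        right_inv := fun _ => rfl }
    · have h1 : f (ι y) = 1 := congrArg Subtype.val (MonoidHom.mem_ker.1 y.2)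
      exact mem_EH.2 ((mem_ker F).1 (MonoidHom.mem_ker.2 h1))
    · rw [MonoidHom.mem_ker]
      apply Subtype.ext
      change f (ι ⟨(e : HH γ), _⟩) = 1
      rw [← MonoidHom.mem_ker, mem_ker F]
      exact mem_EH.1 e.2
  have h1 := card_mul_index φ.ker
  rw [hker, Subgroup.index_ker, MonoidHom.range_eq_top.2 hφ, card_top, _root_.Cfsg.Agent.CpAutTh.ThreePerm.card_cent (f xe) hfx] at h1
  rw [← h1]

variable (hconj : ∀ u : HH γ, orderOf u = 2 → ∃ g : HH γ, g * s0 h * g⁻¹ = u)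
include hconj

/-- `|H|_2 = 64` -/
theorem not_dvd_card : ¬ 128 ∣ Nat.card (HH γ) := by
  have hfin := h.fin
  have : Fact (Nat.Prime 2) := ⟨Nat.prime_two⟩
  intro h1
  obtain ⟨P, hsP, hPc⟩ := exists_sylow_central (order_s0 h) hconj
  have h2 : 2 ^ 7 ∣ Nat.card ↥(P : Subgroup (HH γ)) := P.pow_dvd_card_of_pow_dvd_card (by norm_num only []; exact h1)
  have h3 : (P : Subgroup (HH γ)) ≤ centralizer ({s0 h} : Set (HH γ)) :=
    fun y hy => mem_centralizer_singleton_iff.2 (hPc y hy)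
  have h4 := h2.trans (card_dvd_of_le h3)
  rw [card_Y h] at h4
  revert h4
  norm_num

variable (FT : ∀ (K : Type u) [Group K] [Finite K], Odd (Nat.card K) → Group.IsSolvable K)
include FT

/-- the case `|O_{3'}(H)|` even -/
theorem comps_even (hR : Even (Nat.card ↥(pPrimeCore 3 (HH γ)))) : Comps 3 (HH γ) := by
  have hfin := h.fin
  have : Fact (Nat.Prime 2) := ⟨Nat.prime_two⟩
  set R := pPrimeCore 3 (HH γ) with hRdef
  have hRn : R.Normal := Lib.Cores.pPrimeCore_normal (G := HH γ) 3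
  obtain ⟨r, hr⟩ := exists_prime_orderOf_dvd_card' 2 (even_iff_two_dvd.1 hR)
  have hinv : ∀ u : HH γ, orderOf u = 2 → u ∈ R := by
    intro u hu
    obtain ⟨g, hg⟩ := hconj u hu
    obtain ⟨g', hg'⟩ := hconj (r : HH γ) (by rw [Subgroup.orderOf_coe, hr])
    have h1 : g * g'⁻¹ * r * (g * g'⁻¹)⁻¹ = u := conj_trans hg hg'
    rw [← h1]
    exact hRn.conj_mem _ r.2 _
  have hER : EH γ ≤ R := by
    intro e he
    have he' : (e : G) ∈ E γ := ⟨mem_EH.1 he, e.2⟩
    obtain ⟨a, ha, b, hb, haa, hbb, hab⟩ := prod_inv h he'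
    have key : ∀ (a : G) (ha : a ∈ E γ), a * a = 1 → (⟨a, E_le_H ha⟩ : HH γ) ∈ R := by
      intro a ha haa
      by_cases h1 : a = 1
      · have : (⟨a, E_le_H ha⟩ : HH γ) = 1 := Subtype.ext h1
        rw [this]
        exact one_mem _
      · apply hinv
        rw [Subgroup.orderOf_mk]
        exact orderOf_eq_prime (by rw [pow_two]; exact haa) h1
    have h1 : e = ⟨a, E_le_H ha⟩ * ⟨b, E_le_H hb⟩ := Subtype.ext hab
    rw [h1]
    exact mul_mem (key a ha haa) (key b hb hbb)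
  apply comps_of_quot_solvable
  apply Classification.TypeZ.Comp.isSolvable_of_not_four_dvd FT
  intro h4
  apply not_dvd_card h hconj
  have h5 : 32 ∣ Nat.card ↥R := by
    rw [← card_EH h]
    exact card_dvd_of_le hER
  rw [← card_mul_index R]
  have h6 : (128 : ℕ) = 32 * 4 := by norm_num
  rw [h6]
  exact mul_dvd_mul h5 h4

end

end Cfsg.Agent.CpAutTh.ThreeCard

end

-- merged: Cfsg.Agent.CpAutTh.ThreeList
section

/-!
# The Thompson group, type `(3, 3)`: the list of S1759 (helper96)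

* `no_alt_eight` : `K ≅ A8` is not possible;
* `inC_of_list` : the groups on the list of S1759 of order not divisible by 11 and 128, not `A8`, are `C_3`-groups.
-/

set_option autoImplicit false
set_option maxRecDepth 100000
set_option linter.unusedSectionVars false

namespace Cfsg.Agent.CpAutTh.ThreeList

open Subgroup Cfsg Equiv Equiv.Perm

universe u

/-- the list of S1759 -/
def RList (K : Type u) [Group K] : Prop :=
  (∃ (F : Type) (_ : Field F) (_ : Fintype F), Fintype.card F = 9 ∧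
      (Nonempty (K ≃* Cfsg.PSU 3 F 3) ∨ Nonempty (K ≃* Cfsg.PSU 4 F 3))) ∨
    (∃ (F : Type) (_ : Field F) (_ : Fintype F), Fintype.card F = 4 ∧ Nonempty (K ≃* Cfsg.PSU 4 F 2)) ∨
    (∃ (F : Type) (_ : Field F) (_ : Fintype F), Fintype.card F = 3 ∧
      (Nonempty (K ≃* Matrix.ProjectiveSpecialLinearGroup (Fin 4) F) ∨ Nonempty (K ≃* ↥(Cfsg.Lie.chevG2.group F)))) ∨
    Nonempty (K ≃* ↥(alternatingGroup (Fin 8))) ∨
    Nonempty (K ≃* ↥(alternatingGroup (Fin 9))) ∨
    Cfsg.Spor.IsoM12 K ∨ Cfsg.Spor.IsoJ2 K ∨ Cfsg.Spor.IsoJ3 K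

/-- an involution of `A8` -/
def t8 : alternatingGroup (Fin 8) := ⟨swap (0 : Fin 8) 1 * swap (2 : Fin 8) 3, by
  rw [Equiv.Perm.mem_alternatingGroup]
  decide +kernel⟩

theorem order_t8 : orderOf t8 = 2 := by
  have : Fact (Nat.Prime 2) := ⟨Nat.prime_two⟩
  apply orderOf_eq_prime
  · apply Subtype.ext
    change (swap (0 : Fin 8) 1 * swap (2 : Fin 8) 3) ^ 2 = 1
    decide +kernel
  · intro h
    have h1 : swap (0 : Fin 8) 1 * swap (2 : Fin 8) 3 = 1 := congrArg Subtype.val h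
    revert h1
    decide +kernel

theorem card_cent_t8 : Nat.card ↥(centralizer ({t8} : Set (alternatingGroup (Fin 8)))) = 96 := by
  have h1 := ThreePerm.card_cent_alt t8 (swap (0 : Fin 8) 1) (Equiv.Perm.sign_swap (by decide)) (by
    change swap (0 : Fin 8) 1 * (swap (0 : Fin 8) 1 * swap (2 : Fin 8) 3) = (swap (0 : Fin 8) 1 * swap (2 : Fin 8) 3) * swap (0 : Fin 8) 1
    decide +kernel)
  rw [Equiv.Perm.nat_card_centralizer] at h1
  have h2 : (t8 : Perm (Fin 8)).cycleType = {2, 2} := by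
    change (swap (0 : Fin 8) 1 * swap (2 : Fin 8) 3).cycleType = {2, 2}
    decide +kernel
  rw [h2] at h1
  have h3 : (Fintype.card (Fin 8) - ({2, 2} : Multiset ℕ).sum).factorial * ({2, 2} : Multiset ℕ).prod *
      (∏ n ∈ ({2, 2} : Multiset ℕ).toFinset, (({2, 2} : Multiset ℕ).count n).factorial) = 192 := by decide
  rw [h3] at h1
  omega

theorem no_alt_eight {A : Type u} [Group A] [Finite A] {z : A}
    (hconj : ∀ u : A, orderOf u = 2 → ∃ g : A, g * z * g⁻¹ = u)
    (h64 : 64 ∣ Nat.card ↥(centralizer ({z} : Set A))) (h128 : ¬ 128 ∣ Nat.card A) (K : Subgroup A) [K.Normal]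
    (e : ↥K ≃* alternatingGroup (Fin 8)) : False := by
  let t : ↥K := e.symm t8
  have ht : orderOf (t : A) = 2 := by
    rw [Subgroup.orderOf_coe]
    change orderOf (e.symm t8) = 2
    rw [MulEquiv.orderOf_eq, order_t8]
  obtain ⟨g, hg⟩ := hconj _ ht
  have h1 : 64 ∣ Nat.card ↥(centralizer ({(t : A)} : Set A)) := by
    rw [← Nat.card_congr (Mid.centConj g hg).toEquiv]
    exact h64
  have hK : Nat.card ↥K = 20160 := by
    rw [Nat.card_congr e.toEquiv, nat_card_alternatingGroup, Nat.card_eq_fintype_card, Fintype.card_fin]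
    decide
  have hodd : ¬ 2 ∣ K.index := by
    intro h2
    apply h128
    rw [← card_mul_index K, hK]
    have : (128 : ℕ) ∣ 20160 * 2 := by norm_num
    exact this.trans (Nat.mul_dvd_mul_left _ h2)
  set C := centralizer ({(t : A)} : Set A) with hC
  have h2 : K.relIndex C ∣ K.index := Subgroup.relIndex_dvd_index_of_normal K C
  have h3 : Nat.card ↥(K.subgroupOf C) * K.relIndex C = Nat.card ↥C := card_mul_index _
  have h4 : 64 ∣ Nat.card ↥(K.subgroupOf C) := by
    rw [← h3] at h1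
    have h5 : (64 : ℕ).Coprime (K.relIndex C) := by
      have h6 : ¬ 2 ∣ K.relIndex C := fun h7 => hodd (h7.trans h2)
      have h8 : (2 : ℕ).Coprime (K.relIndex C) := (Nat.Prime.coprime_iff_not_dvd Nat.prime_two).2 h6
      have h9 := Nat.Coprime.pow_left 6 h8
      norm_num at h9
      exact h9
    exact h5.dvd_of_dvd_mul_right h1
  have e1 : ↥(K.subgroupOf C) ≃ ↥(centralizer ({t} : Set ↥K)) :=
    { toFun := fun y => ⟨⟨((y : ↥C) : A), mem_subgroupOf.1 y.2⟩,
        mem_centralizer_singleton_iff.2 (Subtype.ext (mem_centralizer_singleton_iff.1 (y : ↥C).2))⟩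
      invFun := fun y => ⟨⟨((y : ↥K) : A),
        mem_centralizer_singleton_iff.2 (congrArg Subtype.val (mem_centralizer_singleton_iff.1 y.2))⟩,
        mem_subgroupOf.2 (y : ↥K).2⟩
      left_inv := fun _ => rfl
      right_inv := fun _ => rfl }
  have e2 : ↥(centralizer ({t} : Set ↥K)) ≃ ↥(centralizer ({t8} : Set (alternatingGroup (Fin 8)))) :=
    { toFun := fun y => ⟨e y, by
        have h5 : e t = t8 := e.apply_symm_apply t8
        rw [mem_centralizer_singleton_iff, ← h5, ← map_mul, mem_centralizer_singleton_iff.1 y.2, map_mul]⟩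
      invFun := fun y => ⟨e.symm y, by
        rw [mem_centralizer_singleton_iff]
        change e.symm y * e.symm t8 = e.symm t8 * e.symm y
        rw [← map_mul, mem_centralizer_singleton_iff.1 y.2, map_mul]⟩
      left_inv := fun y => Subtype.ext (e.symm_apply_apply y)
      right_inv := fun y => Subtype.ext (e.apply_symm_apply y) }
  rw [Nat.card_congr (e1.trans e2), card_cent_t8] at h4
  revert h4
  norm_num

theorem card_u42 {F : Type} [Field F] [Fintype F] (hF : Fintype.card F = 4) : Nat.card (PSU 4 F 2) = 25920 := by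
  have h := S0280.result (F := F) (q := 2) (by rw [hF]; norm_num) 4 (by norm_num)
  rw [show Nat.gcd 4 (2 + 1) = 1 from rfl] at h
  simp only [Finset.prod_range_succ, Finset.prod_range_zero] at h
  norm_num only [_root_.one_mul, _root_.ite_true, _root_.ite_false] at h
  omega

theorem card_u43 {F : Type} [Field F] [Fintype F] (hF : Fintype.card F = 9) : 128 ∣ Nat.card (PSU 4 F 3) := by
  have h := S0280.result (F := F) (q := 3) (by rw [hF]; norm_num) 4 (by norm_num)
  rw [show Nat.gcd 4 (3 + 1) = 4 from rfl] at h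
  simp only [Finset.prod_range_succ, Finset.prod_range_zero] at h
  norm_num only [_root_.ite_true, _root_.one_mul, _root_.ite_false] at h
  omega

theorem card_l43 {F : Type} [Field F] [Fintype F] (hF : Fintype.card F = 3) :
    128 ∣ Nat.card (Matrix.ProjectiveSpecialLinearGroup (Fin 4) F) := by
  have h := S0243.result (F := F) (q := 3) hF 4 (by norm_num)
  rw [show Nat.gcd 4 (3 - 1) = 2 from rfl, Fin.prod_univ_four] at h
  norm_num only [_root_.Fin.coe_ofNat_eq_mod, _root_.pow_zero, _root_.Nat.add_one_sub_one, _root_.pow_one] at h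
  omega

theorem card_g2 {F : Type} [Field F] [Fintype F] (hF : Fintype.card F = 3) :
    Nat.card ↥(Lie.chevG2.group F) = 4245696 := by
  rw [S1059.result hF]
  norm_num

/-- the groups on the list -/
theorem inC_of_list {K L : Type u} [Group K] [Group L] (hl : RList K) (h8 : ¬ Nonempty (K ≃* ↥(alternatingGroup (Fin 8))))
    (h11 : ¬ 11 ∣ Nat.card K) (h128 : ¬ 128 ∣ Nat.card K) (e : L ⧸ center L ≃* K) (hLq : IsQuasisimple L)
    (hLZ : IsPGroup 3 ↥(center L)) (hON : ∀ (K : Type u) [Group K], Spor.IsoON K → 6531840 < Nat.card K) : InC 3 L := by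
  have hc := Nat.card_congr e.toEquiv
  -- a simple group on the list with suitable order
  have key : IsCpSimple 3 (L ⧸ center L) → Nat.card K ≠ 360 → Nat.card K ≤ 6531840 → InC 3 L := by
    intro h1 h2 h3
    refine ⟨hLq, hLZ, h1, ?_⟩
    rintro (⟨h4, -⟩ | ⟨-, -, ⟨⟨e2⟩⟩ | h4⟩)
    · omega
    · apply h2
      rw [← hc, Nat.card_congr e2.toEquiv, SmallSimple.PSLFacts.card_alt_six]
    · have := hON _ h4
      rw [hc] at this
      omega
  rcases hl with ⟨F, hF, hFF, hq, ⟨⟨e1⟩⟩ | ⟨⟨e1⟩⟩⟩ | ⟨F, hF, hFF, hq, ⟨e1⟩⟩ |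
    ⟨F, hF, hFF, hq, ⟨⟨e1⟩⟩ | ⟨⟨e1⟩⟩⟩ | h1 | ⟨⟨e1⟩⟩ | h1 | h1 | h1
  · -- U3(3)
    have h1 := Nat.card_congr e1.toEquiv
    rw [SmallSimple.PSLFacts.card_psu_three_three hq] at h1
    refine key (Or.inl (Or.inl (Or.inr (Or.inr (Or.inl ⟨F, hF, hFF, Seven.charP_of_card (n := 2) Nat.prime_three
      (by rw [hq]; norm_num), 3, 3, by rw [hq]; norm_num, le_rfl, by omega, ⟨e.trans e1⟩⟩))))) ?_ ?_ <;> omega
  · exfalso
    apply h128
    rw [Nat.card_congr e1.toEquiv]
    exact card_u43 hq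
  · -- U4(2)
    have h1 := Nat.card_congr e1.toEquiv
    rw [card_u42 hq] at h1
    have : Fact (Nat.Prime 3) := ⟨Nat.prime_three⟩
    obtain ⟨e2⟩ := S0822.result (F := F) (K := ZMod 3) hq (by rw [ZMod.card])
    refine key (Or.inl (Or.inl (Or.inr (Or.inl ⟨ZMod 3, inferInstance, inferInstance, inferInstance, 2, le_rfl,
      fun _ => by rw [ZMod.card], ⟨(e.trans e1).trans e2⟩⟩)))) ?_ ?_ <;> omega
  · exfalso
    apply h128
    rw [Nat.card_congr e1.toEquiv]
    exact card_l43 hq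
  · -- G2(3)
    have h1 := Nat.card_congr e1.toEquiv
    rw [card_g2 hq] at h1
    refine key (Or.inl (Or.inl (Or.inr (Or.inr (Or.inr (Or.inr (Or.inr (Or.inr (Or.inl ⟨F, hF, hFF,
      Seven.charP_of_card (n := 1) Nat.prime_three (by rw [hq]; norm_num), Or.inl ⟨by rw [hq],
        ⟨e.trans e1⟩⟩⟩))))))))) ?_ ?_ <;> omega
  · exact absurd h1 h8
  · -- A9
    have h1 := Nat.card_congr e1.toEquiv
    have h9 : Nat.card ↥(alternatingGroup (Fin 9)) = 181440 := by
      rw [nat_card_alternatingGroup, Nat.card_eq_fintype_card, Fintype.card_fin]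
      decide
    rw [h9] at h1
    refine key (Or.inr (Or.inl ⟨9, Or.inr (Or.inr rfl), ⟨e.trans e1⟩⟩)) ?_ ?_ <;> omega
  · exfalso
    obtain ⟨e1⟩ := h1
    apply h11
    rw [Nat.card_congr e1.toEquiv, MTwelveType.SylowModel.card_M12]
    norm_num
  · exfalso
    obtain ⟨e1⟩ := h1
    apply h128
    rw [Nat.card_congr e1.toEquiv, S1619.result.2.2.2]
    norm_num
  · exfalso
    obtain ⟨F, _, _, ω, hF, hω, ⟨e1⟩⟩ := h1
    apply h128
    rw [Nat.card_congr e1.toEquiv, (S1625.result F hF ω hω).2.2.1]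
    norm_num

end Cfsg.Agent.CpAutTh.ThreeList

end

-- merged: Cfsg.Agent.CpAutTh.ThreeEnd
section

/-!
# The Thompson group: elements of order 3 (helper96)

`comps_three` : `Comps 3 C(x)`, `x` of order 3.
-/

set_option autoImplicit false
set_option maxRecDepth 100000
set_option linter.unusedSectionVars false

namespace Cfsg.Agent.CpAutTh.ThreeEnd

open Subgroup Cfsg
open Cfsg.Agent.Th.Base Cfsg.Agent.Th.Word Cfsg.Agent.Th.RelWords Cfsg.Agent.Th.PermTab
  Cfsg.Agent.Th.KOracle Cfsg.Agent.Th.KPerm Cfsg.Agent.Th.NineAct Cfsg.Agent.Th.CStruct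
open Cfsg.Agent.KFacts.Th.Mask Cfsg.Agent.KFacts.Th.Struct
open Cfsg.Agent.CpAutTh.Data Cfsg.Agent.CpAutTh.RankOne Cfsg.Agent.CpAutTh.Local
  Cfsg.Agent.CpAutTh.Mid Cfsg.Agent.CpAutTh.SevenAux Cfsg.Agent.CpAutTh.Seven Cfsg.Agent.CpAutTh.ThreePerm
  Cfsg.Agent.CpAutTh.ThreeE Cfsg.Agent.CpAutTh.Three Cfsg.Agent.CpAutTh.ThreeCard Cfsg.Agent.CpAutTh.ThreeList
open Cfsg.Agent.LThree (Comps)

universe u

/-- the order of the centralizer in the quotient -/
theorem card_cent_quot {H : Type u} [Group H] [Finite H] {s : H} (hs : orderOf s = 2) (W : Subgroup H) [W.Normal]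
    (hW : Odd (Nat.card ↥W)) {n : ℕ} (h : 2 ^ n ∣ Nat.card ↥(centralizer ({s} : Set H))) :
    2 ^ n ∣ Nat.card ↥(centralizer ({(QuotientGroup.mk' W s)} : Set (H ⧸ W))) := by
  rw [LThree.Red.centralizer_mk Nat.prime_two W (Nat.coprime_two_right.2 hW) hs]
  set Y := centralizer ({s} : Set H) with hY
  let π := QuotientGroup.mk' W
  let g := π.subgroupMap Y
  have h1 := card_mul_index g.ker
  rw [Subgroup.index_ker, MonoidHom.range_eq_top.2 (π.subgroupMap_surjective Y), card_top] at h1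
  have h2 : Odd (Nat.card ↥g.ker) := by
    have h3 : g.ker.map Y.subtype ≤ W := by
      rintro _ ⟨y, hy, rfl⟩
      have h4 : π (y : H) = 1 := congrArg Subtype.val (MonoidHom.mem_ker.1 hy)
      exact (QuotientGroup.eq_one_iff _).1 h4
    have h4 := card_dvd_of_le h3
    rw [card_map_of_injective Y.subtype_injective] at h4
    exact hW.of_dvd_nat h4
  have h3 : (2 ^ n).Coprime (Nat.card ↥g.ker) := Nat.Coprime.pow_left n (Nat.coprime_two_left.2 h2)
  rw [← h1] at h
  exact h3.dvd_of_dvd_mul_left h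

section

variable {G : Type u} [Group G] {γ : ℕ → G} (h : Ctx γ)
  (hone : ∀ u : G, orderOf u = 2 → ∃ g : G, g * u * g⁻¹ = γ 1)
  (FT : ∀ (K : Type u) [Group K] [Finite K], Odd (Nat.card K) → Group.IsSolvable K)
  (hrec : ∀ (A : Type u) [Group A] [Finite A] (z : A), orderOf z = 2 →
    IsOfSymplecticType ↥(generalizedFittingSubgroup ↥(centralizer ({z} : Set A))) →
    IsExtraspecial 2 ↥(generalizedFittingSubgroup ↥(centralizer ({z} : Set A))) →
    Nat.card ↥(generalizedFittingSubgroup ↥(centralizer ({z} : Set A))) = 32 →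
    IsSimpleGroup ↥(generalizedFittingSubgroup A) → ¬ IsMulCommutative ↥(generalizedFittingSubgroup A) →
    RList ↥(generalizedFittingSubgroup A))
  (hON : ∀ (K : Type u) [Group K], Spor.IsoON K → 6531840 < Nat.card K)
include h hone FT hrec hON

/-- type `(3, 3)` -/
theorem comps_rep (hconj : ∀ u : HH γ, orderOf u = 2 → ∃ g : HH γ, g * s0 h * g⁻¹ = u) : Comps 3 (HH γ) := by
  have hfin := h.fin
  have : Fact (Nat.Prime 2) := ⟨Nat.prime_two⟩
  obtain ⟨f, F⟩ := Local.exists_epi h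
  have hx : orderOf (ev γ X33) = 3 := by
    have := o33 h F
    rwa [Subgroup.orderOf_mk] at this
  rcases Nat.even_or_odd (Nat.card ↥(pPrimeCore 3 (HH γ))) with hR | hR
  · exact comps_even h hconj FT hR
  refine LThree.Red.main FT Nat.prime_three (fun s hs => hall' h hone (by norm_num) (ev γ X33) hx s hs) ?_ ?_
  · intro s hs hsR
    exfalso
    have h1 : orderOf (⟨s, hsR⟩ : ↥(pPrimeCore 3 (HH γ))) ∣ Nat.card ↥(pPrimeCore 3 (HH γ)) := _root_.orderOf_dvd_natCard _
    rw [Subgroup.orderOf_mk, hs] at h1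
    exact (Nat.not_even_iff_odd.2 hR) (even_iff_two_dvd.2 h1)
  intro W hWn K L _ _ hWodd hZW hRW hKn hKs hKnc hCK hLq hLZ ⟨e⟩
  have hW2 : (Nat.card ↥W).Coprime 2 := Nat.coprime_two_right.2 hWodd
  obtain ⟨hsp, hex, hc⟩ := fstar h F W hWodd hZW
  have hz : orderOf (QuotientGroup.mk' W (s0 h)) = 2 := LThree.Red.orderOf_mk Nat.prime_two W hW2 (order_s0 h)
  have hF := FixBN.BTheorem.genFitting_eq hKn hKs hKnc hCK
  have hl := hrec (HH γ ⧸ W) (QuotientGroup.mk' W (s0 h)) hz hsp hex hc (by rw [hF]; exact hKs) (by rw [hF]; exact hKnc)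
  rw [hF] at hl
  have hA : Nat.card (HH γ ⧸ W) ∣ Nat.card (HH γ) := card_quotient_dvd_card W
  have h128 : ¬ 128 ∣ Nat.card (HH γ ⧸ W) := fun h1 => not_dvd_card h hconj (h1.trans hA)
  have hconjA : ∀ u : HH γ ⧸ W, orderOf u = 2 → ∃ g : HH γ ⧸ W, g * QuotientGroup.mk' W (s0 h) * g⁻¹ = u := by
    intro u hu
    obtain ⟨s, hs, rfl⟩ := LThree.Red.exists_involution_lift W hWodd hu
    obtain ⟨g, hg⟩ := hconj s hs
    refine ⟨QuotientGroup.mk' W g, ?_⟩
    change QuotientGroup.mk' W g * QuotientGroup.mk' W (s0 h) * (QuotientGroup.mk' W g)⁻¹ = QuotientGroup.mk' W s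
    rw [← map_inv, ← map_mul, ← map_mul, hg]
  have h64 : 2 ^ 6 ∣ Nat.card ↥(centralizer ({(QuotientGroup.mk' W (s0 h))} : Set (HH γ ⧸ W))) := by
    refine card_cent_quot (order_s0 h) W hWodd ?_
    rw [card_Y h]
    norm_num
  have hKc : Nat.card ↥K ∣ Nat.card (HH γ ⧸ W) := card_subgroup_dvd_card K
  refine inC_of_list hl ?_ ?_ (fun h1 => h128 (h1.trans hKc)) e hLq hLZ hON
  · rintro ⟨e8⟩
    exact no_alt_eight hconjA (by norm_num only [_root_.QuotientGroup.mk'_apply] at h64; exact h64) h128 K e8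
  · intro h11
    have h1 := (h11.trans hKc).trans (hA.trans (card_subgroup_dvd_card _))
    rw [h.card] at h1
    revert h1
    norm_num

variable (h204 : ∀ (K : Type u) [Group K] [Finite K] [IsSimpleGroup K], ¬ IsCyclic K → ∃ E : Subgroup K, IsKleinFour E)
include h204

/-- **the elements of order 3** -/
theorem comps_three (x : G) (hx : orderOf x = 3) : Comps 3 ↥(centralizer ({x} : Set G)) := by
  have hfin := h.fin
  obtain ⟨f, F⟩ := Local.exists_epi h
  -- the alternatives for a pair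
  have key : ∀ (x s : G), orderOf x = 3 → orderOf s = 2 → s * x = x * s →
      Comps 3 ↥(centralizer ({x} : Set G)) ∨ ∃ g : G, g * s * g⁻¹ = γ 1 ∧ g * x * g⁻¹ = ev γ X33 := by
    intro x s hx hs hsx
    obtain ⟨g, h1, h2 | h2 | h2⟩ := exists_pair h hone hx hs hsx
      (P := fun z => z = ev γ X3 ∨ z = ev γ X33 ∨ z = ev γ X333) (fun y hy => by
        obtain ⟨c, hc | hc | hc⟩ := exists_rep_three h F hy
        · exact ⟨c, Or.inl (congrArg Subtype.val hc)⟩
        · exact ⟨c, Or.inr (Or.inl (congrArg Subtype.val hc))⟩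
        · exact ⟨c, Or.inr (Or.inr (congrArg Subtype.val hc))⟩)
    · left
      exact comps_of_pair h hone h204 Nat.prime_three (by norm_num) (by norm_num) hx hs hsx h1 h2
        (fun w hw hwa hwx => inv_three h F hw hwa hwx)
    · right
      exact ⟨g, h1, h2⟩
    · left
      exact comps_of_pair h hone h204 Nat.prime_three (by norm_num) (by norm_num) hx hs hsx h1 h2
        (fun w hw hwa hwx => inv_triple h F hw hwa hwx)
  refine comps_of_odd FT ?_
  rintro ⟨⟨s, hsx⟩, hs⟩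
  rw [Subgroup.orderOf_mk] at hs
  rw [mem_centralizer_singleton_iff] at hsx
  rcases key x s hx hs hsx with h1 | ⟨g, -, h2⟩
  · exact h1
  -- type `(3, 3)`
  suffices h3 : Comps 3 (HH γ) from h3.congr (centConj g h2).symm
  have hx33 : orderOf (ev γ X33) = 3 := by
    have := o33 h F
    rwa [Subgroup.orderOf_mk] at this
  by_cases hall : ∀ u : G, orderOf u = 2 → u * ev γ X33 = ev γ X33 * u →
      ∃ g : G, g * u * g⁻¹ = γ 1 ∧ g * ev γ X33 * g⁻¹ = ev γ X33
  · refine comps_rep h hone FT hrec hON ?_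
    rintro ⟨u, hu⟩ hou
    rw [Subgroup.orderOf_mk] at hou
    obtain ⟨g, h1, h2⟩ := hall u hou (mem_centralizer_singleton_iff.1 hu)
    have hg : g ∈ centralizer ({ev γ X33} : Set G) := by
      rw [mem_centralizer_singleton_iff]
      exact mul_inv_eq_iff_eq_mul.1 h2
    refine ⟨⟨g⁻¹, _root_.InvMemClass.inv_mem hg⟩, Subtype.ext ?_⟩
    change g⁻¹ * γ 1 * g⁻¹⁻¹ = u
    rw [← h1]
    group
  · push Not at hall
    obtain ⟨u, hu, hux, hno⟩ := hall
    rcases key (ev γ X33) u hx33 hu hux with h1 | ⟨g, h3, h4⟩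
    · exact h1
    · exact absurd h4 (hno g h3)

end

end Cfsg.Agent.CpAutTh.ThreeEnd

end

-- merged: Cfsg.Agent.CpAutTh.Main
section

/-!
# The Thompson group: automorphisms of order 3, 5, 7 (helper96)

`autC_of` : every automorphism of `Th` is inner; the centralizers by `ThreeEnd.comps_three`, `Mid.comps_five`,
`Seven.comps_seven`.
-/

set_option autoImplicit false

namespace Cfsg.Agent.CpAutTh.Main

open Subgroup Cfsg
open Cfsg.Agent.Th Cfsg.Agent.Th.Base Cfsg.Agent.Th.Word Cfsg.Agent.Th.FlagCover Cfsg.Agent.Th.IndexUpper Cfsg.Agent.Th.KOracle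
open Cfsg.Agent.LThree (Comps)
open Cfsg.Agent.CpAut

/-- one class of involutions -/
theorem hone (u : Spor.Th) (hu : orderOf u = 2) : ∃ g : Spor.Th, g * u * g⁻¹ = gTh 1 :=
  isConj_iff.1 (Cfsg.Agent.MonsterX.ThOneClass.oneClass u (gTh 1) hu Cfsg.Agent.MonsterX.ThOneClass.orderOf_a)

theorem simple : IsSimpleGroup Spor.Th := Main1700.isTh.1

theorem noncomm : ¬ IsMulCommutative Spor.Th := by
  intro hc
  have hs := simple
  have hf : Finite Spor.Th := Cfsg.Agent.KFacts.Th.Main.finite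
  have h1 := Cfsg.Agent.MonsterX.ThOneClass.orderOf_a
  have h2 := Cfsg.Agent.MonsterX.ThOneClass.card_a
  have h3 : Subgroup.centralizer ({gTh 1} : Set Spor.Th) = ⊤ := by
    rw [eq_top_iff]
    intro y _
    rw [mem_centralizer_singleton_iff]
    exact hc.is_comm.comm _ _
  rw [h3, card_top] at h2
  have h4 : (zpowers (gTh 1)).Normal := ⟨fun n hn g => by
    have h5 : g * n * g⁻¹ = n := by
      rw [hc.is_comm.comm g n, mul_assoc, mul_inv_cancel, mul_one]
    rwa [h5]⟩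
  have h5 : Nat.card ↥(zpowers (gTh 1)) = 2 := by rw [Nat.card_zpowers, h1]
  rcases h4.eq_bot_or_eq_top with h | h
  · rw [h, Subgroup.card_bot] at h5
    omega
  · rw [h, card_top, h2] at h5
    omega

theorem center_eq : center Spor.Th = ⊥ := by
  have hs := simple
  exact center_eq_bot_of_simple noncomm

theorem autC_of {p : ℕ} (hp : ∀ x : Spor.Th, orderOf x = p → Comps p ↥(centralizer ({x} : Set Spor.Th))) :
    AutC p Spor.Th :=
  autC_of_inner center_eq (fun α _ => Cfsg.Agent.KFacts.Th.Main.inner α) hp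

end Cfsg.Agent.CpAutTh.Main

end

-- merged: Cfsg.Agent.CpAutTh.Final
section

/-!
# The Thompson group: the rows of S1814 (helper96)

`th3`, `th5`, `th7` : `AutC p Spor.Th` for `p = 3, 5, 7`.
-/

set_option autoImplicit false

namespace Cfsg.Agent.CpAutTh.Final

open Cfsg
open Cfsg.Agent.CpAut Cfsg.Agent.CpAutTh.Main

theorem th3 : AutC 3 Spor.Th :=
  autC_of fun x hx => ThreeEnd.comps_three Cfsg.Agent.KFacts.Th.Main.ctx hone
    (fun _ _ _ h => S0205.result h)
    (fun _ _ _ z hz hQ hE h32 hL hL' => S1759.result z hz hQ hE h32 hL hL')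
    (fun _ _ h => Cfsg.Agent.OddHalf.D6.QThree.PumpOrd.lt_on h)
    (fun _ _ _ _ h => S0204.result h) x hx

theorem th5 : AutC 5 Spor.Th :=
  autC_of fun x hx => Mid.comps_five Cfsg.Agent.KFacts.Th.Main.ctx hone
    (fun _ _ _ h => S0205.result h) (fun _ _ _ _ h => S0204.result h) x hx

theorem th7 : AutC 7 Spor.Th :=
  autC_of fun x hx => Seven.comps_seven Cfsg.Agent.KFacts.Th.Main.ctx hone
    (fun _ _ _ h => S0205.result h) (fun _ _ _ _ h hCIT => S0348.result h hCIT) x hx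

end Cfsg.Agent.CpAutTh.Final

end

private theorem dce_e71bef65beeb : _root_.True := by
  try have : _root_.True := by simp only [_root_.Cfsg.Agent.CpAutTh.Three.s0.congr_simp]
  exact _root_.True.intro
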